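import Mathlib

/-!
Integral vectors killed by a cyclotomic polynomial in a matrix, and their eigenvectors modulo a prime.
-/

set_option autoImplicit false

namespace CfsgLib.Chevalley.F4Graph

open Polynomial Matrix

variable {r : ℕ}

theorem vecMul_aeval_mem (M : Matrix (Fin r) (Fin r) ℤ) (P : (Fin r → ℤ) → Prop) (h0 : P 0)
    (hadd : ∀ x y, P x → P y → P (x + y)) (hsmul : ∀ (c : ℤ) x, P x → P (c • x))
    (hM : ∀ x, P x → P (x ᵥ* M)) {μ : Fin r → ℤ} (hμ : P μ) (f : ℤ[X]) : P (μ ᵥ* aeval M f) := by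
  have hpow : ∀ k : ℕ, P (μ ᵥ* M ^ k) := by
    intro k
    induction k with
    | zero => simpa using hμ
    | succ k ih => rw [pow_succ, ← Matrix.vecMul_vecMul]; exact hM _ ih
  induction f using Polynomial.induction_on' with
  | add f g hf hg => rw [map_add, Matrix.vecMul_add]; exact hadd _ _ hf hg
  | monomial k c =>
    rw [aeval_monomial, Algebra.algebraMap_eq_smul_one, smul_one_mul, Matrix.vecMul_smul]
    exact hsmul _ _ (hpow k)

/-- A vector with an eigenvector as its residue, moved into the kernel of the cyclotomic factor. -/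
theorem exists_killed (M : Matrix (Fin r) (Fin r) ℤ) {n e ℓ q : ℕ} [Fact ℓ.Prime]
    (hM : M ^ n = 1) (hn : 0 < n) (hℓn : ¬ ℓ ∣ n) (hq : IsPrimitiveRoot (q : ZMod ℓ) e)
    (P : (Fin r → ℤ) → Prop) (h0 : P 0) (hadd : ∀ x y, P x → P y → P (x + y))
    (hsmul : ∀ (c : ℤ) x, P x → P (c • x)) (hPM : ∀ x, P x → P (x ᵥ* M))
    {μ : Fin r → ℤ} (hμ : P μ) (hμ0 : (fun j => (μ j : ZMod ℓ)) ≠ 0)
    (ha : (fun j => (μ j : ZMod ℓ)) ᵥ* M.map (Int.castRingHom (ZMod ℓ)) =
      (q : ZMod ℓ) • fun j => (μ j : ZMod ℓ)) :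
    ∃ ν : Fin r → ℤ, P ν ∧ ν ≠ 0 ∧ ν ᵥ* aeval M (cyclotomic e ℤ) = 0 := by
  classical
  set a : Fin r → ZMod ℓ := fun j => (μ j : ZMod ℓ) with hadef
  set Ml := M.map (Int.castRingHom (ZMod ℓ)) with hMl
  have hpow : ∀ k, a ᵥ* Ml ^ k = ((q : ZMod ℓ) ^ k) • a := by
    intro k
    induction k with
    | zero => simp
    | succ k ih =>
      rw [pow_succ, ← Matrix.vecMul_vecMul, ih, Matrix.smul_vecMul, ha, smul_smul, ← pow_succ]
  obtain ⟨i0, hi0⟩ := Function.ne_iff.1 hμ0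
  have hen : e ∣ n := by
    refine hq.dvd_of_pow_eq_one _ ?_
    have h1 : Ml ^ n = 1 := by
      rw [hMl, ← RingHom.mapMatrix_apply, ← map_pow, hM, map_one]
    have h2 := hpow n
    rw [h1, Matrix.vecMul_one] at h2
    have h3 := congrFun h2 i0
    simp only [Pi.smul_apply, smul_eq_mul] at h3
    exact mul_right_cancel₀ hi0 (by rw [one_mul]; exact h3.symm)
  let Po : ℤ[X] := ∏ d ∈ n.divisors.erase e, cyclotomic d ℤ
  have hprod : Po * cyclotomic e ℤ = X ^ n - 1 := by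
    rw [← prod_cyclotomic_eq_X_pow_sub_one hn ℤ, ← Finset.prod_erase_mul _ _
      (Nat.mem_divisors.2 ⟨hen, hn.ne'⟩)]
  refine ⟨μ ᵥ* aeval M Po, vecMul_aeval_mem M P h0 hadd hsmul hPM hμ Po, fun h => ?_, ?_⟩
  · have h2 : ∀ f : ℤ[X], (fun j => ((μ ᵥ* aeval M f) j : ZMod ℓ)) =
        (f.map (Int.castRingHom (ZMod ℓ))).eval (q : ZMod ℓ) • a := by
      intro f
      induction f using Polynomial.induction_on' with
      | add f g hf hg =>
        rw [map_add, Matrix.vecMul_add, Polynomial.map_add, eval_add, add_smul, ← hf, ← hg]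
        funext j
        simp
      | monomial k c =>
        rw [aeval_monomial, Polynomial.map_monomial, eval_monomial, Algebra.algebraMap_eq_smul_one,
          smul_one_mul, Matrix.vecMul_smul, mul_smul, ← hpow k, hMl, ← RingHom.mapMatrix_apply, ← map_pow]
        funext j
        simp [Matrix.vecMul, dotProduct, hadef, Finset.mul_sum]
    have h3 := h2 Po
    rw [h, Polynomial.map_prod, eval_prod] at h3
    simp only [Pi.zero_apply, Int.cast_zero] at h3
    rw [eq_comm, ← Pi.zero_def, smul_eq_zero, Finset.prod_eq_zero_iff] at h3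
    rcases h3 with ⟨d, hd, hd0⟩ | h3
    · rw [map_cyclotomic] at hd0
      obtain ⟨hde, hdN⟩ := Finset.mem_erase.1 hd
      have : NeZero (d : ZMod ℓ) := ⟨fun h => hℓn (((ZMod.natCast_eq_zero_iff d ℓ).1 h).trans
        (Nat.dvd_of_mem_divisors hdN))⟩
      exact hde ((isRoot_cyclotomic_iff.1 hd0).unique hq)
    · exact hμ0 h3
  · rw [Matrix.vecMul_vecMul, ← map_mul, hprod, map_sub, map_pow, aeval_X, hM, map_one, sub_self,
      Matrix.vecMul_zero]

/-- A killed vector makes the determinant vanish. -/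
theorem det_eq_zero_of_killed {A : Matrix (Fin r) (Fin r) ℤ} {ν : Fin r → ℤ} (h0 : ν ≠ 0)
    (h : ν ᵥ* A = 0) : A.det = 0 :=
  Matrix.exists_vecMul_eq_zero_iff.1 ⟨ν, h0, h⟩

/-- Two different singular cyclotomic factors of full degree give the characteristic polynomial. -/
theorem aeval_two_cyclotomic (M : Matrix (Fin r) (Fin r) ℤ) {k l : ℕ} (hk : 0 < k) (hl : 0 < l) (hkl : k ≠ l)
    (hdeg : k.totient + l.totient = r) (hk0 : (aeval M (cyclotomic k ℤ)).det = 0)
    (hl0 : (aeval M (cyclotomic l ℤ)).det = 0) :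
    aeval M (cyclotomic k ℤ * cyclotomic l ℤ) = 0 := by
  set MQ := M.map (Int.castRingHom ℚ) with hMQ
  have hmap : ∀ f : ℤ[X], (Int.castRingHom ℚ).mapMatrix (aeval M f) = aeval MQ (f.map (Int.castRingHom ℚ)) := by
    intro f
    rw [← algebraMap_int_eq, aeval_map_algebraMap]
    exact (aeval_algHom_apply
      ((Int.castRingHom ℚ).mapMatrix : Matrix (Fin r) (Fin r) ℤ →+* Matrix (Fin r) (Fin r) ℚ).toIntAlgHom M f).symm
  have hdvd : ∀ d, 0 < d → (aeval M (cyclotomic d ℤ)).det = 0 → cyclotomic d ℚ ∣ MQ.charpoly := by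
    intro d hd hd0
    by_contra hnd
    obtain ⟨u, w, huw⟩ := (cyclotomic.irreducible_rat hd).coprime_iff_not_dvd.2 hnd
    have h1 := congrArg (aeval MQ) huw
    rw [map_add, map_mul, map_mul, Matrix.aeval_self_charpoly, mul_zero, add_zero, map_one,
      ← map_cyclotomic d (Int.castRingHom ℚ), ← hmap] at h1
    have h2 := congrArg Matrix.det h1
    rw [Matrix.det_mul, ← RingHom.map_det, hd0, map_zero, mul_zero, Matrix.det_one] at h2
    exact zero_ne_one h2
  have h1 : cyclotomic k ℚ * cyclotomic l ℚ ∣ MQ.charpoly :=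
    (cyclotomic.isCoprime_rat hkl).mul_dvd (hdvd k hk hk0) (hdvd l hl hl0)
  have hmon : (cyclotomic k ℚ * cyclotomic l ℚ).Monic := (cyclotomic.monic k ℚ).mul (cyclotomic.monic l ℚ)
  have heq : MQ.charpoly = cyclotomic k ℚ * cyclotomic l ℚ :=
    eq_of_monic_of_dvd_of_natDegree_le hmon (Matrix.charpoly_monic _) h1 (by
      rw [Matrix.charpoly_natDegree_eq_dim, (cyclotomic.monic k ℚ).natDegree_mul (cyclotomic.monic l ℚ),
        natDegree_cyclotomic, natDegree_cyclotomic, hdeg]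
      simp)
  have h0 := Matrix.aeval_self_charpoly MQ
  rw [heq, ← map_cyclotomic k (Int.castRingHom ℚ), ← map_cyclotomic l (Int.castRingHom ℚ),
    ← Polynomial.map_mul, ← hmap] at h0
  exact Matrix.map_injective (f := Int.castRingHom ℚ) Int.cast_injective
    (h0.trans (map_zero (Int.castRingHom ℚ).mapMatrix).symm)

/-- A vanishing cyclotomic factor leaves every other one invertible. -/
theorem det_ne_zero_of_aeval_eq_zero (M : Matrix (Fin r) (Fin r) ℤ) {k l : ℕ} (hkl : k ≠ l)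
    (hk0 : aeval M (cyclotomic k ℤ) = 0) : (aeval M (cyclotomic l ℤ)).det ≠ 0 := by
  intro hl0
  set MQ := M.map (Int.castRingHom ℚ) with hMQ
  have hmap : ∀ f : ℤ[X], (Int.castRingHom ℚ).mapMatrix (aeval M f) = aeval MQ (f.map (Int.castRingHom ℚ)) := by
    intro f
    rw [← algebraMap_int_eq, aeval_map_algebraMap]
    exact (aeval_algHom_apply
      ((Int.castRingHom ℚ).mapMatrix : Matrix (Fin r) (Fin r) ℤ →+* Matrix (Fin r) (Fin r) ℚ).toIntAlgHom M f).symm
  obtain ⟨u, w, huw⟩ := cyclotomic.isCoprime_rat hkl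
  have h1 := congrArg (aeval MQ) huw
  rw [map_add, map_mul, map_mul, ← map_cyclotomic k (Int.castRingHom ℚ),
    ← map_cyclotomic l (Int.castRingHom ℚ), ← hmap, ← hmap, hk0, map_zero, mul_zero, zero_add, map_one] at h1
  have h2 := congrArg Matrix.det h1
  rw [Matrix.det_mul, ← RingHom.map_det, hl0, map_zero, mul_zero, Matrix.det_one] at h2
  exact zero_ne_one h2

/-- An eigenvector modulo `s` among the vectors killed by `X² + b X + 1`, by descent on a minor. -/
theorem exists_eigen_mod (M : Matrix (Fin r) (Fin r) ℤ) {b : ℤ} (hb : -1 ≤ b) (hb' : b ≤ 1)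
    {s : ℕ} (hs : s.Prime) {q : ℤ} (hq : (s : ℤ) ∣ q * q + b * q + 1)
    (P : (Fin r → ℤ) → Prop) (hadd : ∀ x y, P x → P y → P (x + y))
    (hsmul : ∀ (c : ℤ) x, P x → P (c • x)) (hPM : ∀ x, P x → P (x ᵥ* M))
    (hdiv : ∀ (c : ℤ) x, c ≠ 0 → P (c • x) → P x)
    {μ : Fin r → ℤ} (hμ : P μ) (hμ0 : μ ≠ 0) (hkill : μ ᵥ* M ᵥ* M + b • (μ ᵥ* M) + μ = 0) :
    ∃ ν : Fin r → ℤ, P ν ∧ (fun j => (ν j : ZMod s)) ≠ 0 ∧
      (fun j => (ν j : ZMod s)) ᵥ* M.map (Int.castRingHom (ZMod s)) =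
        (q : ZMod s) • fun j => (ν j : ZMod s) := by
  let D : (Fin r → ℤ) → Fin r → Fin r → ℤ := fun x i j => x i * (x ᵥ* M) j - x j * (x ᵥ* M) i
  obtain ⟨i, j, hD⟩ : ∃ i j, D μ i j ≠ 0 := by
    by_contra h
    push Not at h
    obtain ⟨i, hi⟩ := Function.ne_iff.1 hμ0
    have hi' : μ i ≠ 0 := hi
    have e1 : μ i • (μ ᵥ* M) = (μ ᵥ* M) i • μ := funext fun j => by
      have := h i j
      simp only [D] at this
      simp only [Pi.smul_apply, smul_eq_mul]
      linarith [mul_comm (μ j) ((μ ᵥ* M) i)]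
    have e2 := congrArg (· ᵥ* M) e1
    simp only [Matrix.smul_vecMul] at e2
    have h1 := congrFun hkill i
    have h2 := congrFun e2 i
    simp only [Pi.add_apply, Pi.smul_apply, smul_eq_mul, Pi.zero_apply] at h1 h2
    set a := μ i with hadef
    set c := (μ ᵥ* M) i with hcdef
    have h3 : c * c + b * (c * a) + a * a = 0 := by linear_combination a * h1 - h2
    have : a * a ≤ 0 := by nlinarith [mul_self_nonneg (c + a), mul_self_nonneg (c - a), mul_self_nonneg c, mul_self_nonneg a]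
    exact hi' (mul_self_eq_zero.1 (le_antisymm this (mul_self_nonneg a)))
  obtain ⟨n, hn⟩ : ∃ n, (D μ i j).natAbs = n := ⟨_, rfl⟩
  induction n using Nat.strong_induction_on generalizing μ with
  | _ n ih =>
  by_cases h : ∃ ρ : ℕ, ρ < s ∧ ∀ k, (s : ℤ) ∣ (μ ᵥ* M) k - ρ * μ k
  · obtain ⟨ρ, hρ, hdvd⟩ := h
    choose ν hν using hdvd
    have hs0 : (s : ℤ) ≠ 0 := by exact_mod_cast hs.ne_zero
    have hν' : (s : ℤ) • ν = μ ᵥ* M + (-(ρ : ℤ)) • μ := funext fun k => by
      simp only [Pi.smul_apply, Pi.add_apply, smul_eq_mul]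
      rw [← hν k]
      ring
    have hPν : P ν := hdiv _ _ hs0 (hν' ▸ hadd _ _ (hPM _ hμ) (hsmul _ _ hμ))
    have hνM : (s : ℤ) • (ν ᵥ* M) = μ ᵥ* M ᵥ* M + (-(ρ : ℤ)) • (μ ᵥ* M) := by
      rw [← Matrix.smul_vecMul, hν', Matrix.add_vecMul, Matrix.smul_vecMul]
    have hkν : ν ᵥ* M ᵥ* M + b • (ν ᵥ* M) + ν = 0 := by
      refine smul_right_injective _ hs0 ?_
      show (s : ℤ) • _ = (s : ℤ) • 0
      rw [smul_zero, smul_add, smul_add, smul_comm (s : ℤ) b, ← Matrix.smul_vecMul, hνM, hν',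
        Matrix.add_vecMul, Matrix.smul_vecMul]
      have e := congrArg (· ᵥ* M) hkill
      simp only [Matrix.add_vecMul, Matrix.smul_vecMul, Matrix.zero_vecMul] at e
      calc _ = (μ ᵥ* M ᵥ* M ᵥ* M + b • (μ ᵥ* M ᵥ* M) + μ ᵥ* M) +
            (-(ρ : ℤ)) • (μ ᵥ* M ᵥ* M + b • (μ ᵥ* M) + μ) := by module
        _ = 0 := by rw [e, hkill, smul_zero, add_zero]
    have hrec : (s : ℤ) * s * D ν i j = ((ρ : ℤ) * ρ + b * ρ + 1) * D μ i j := by
      have a1 := congrFun hν' i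
      have a2 := congrFun hν' j
      have b1 := congrFun hνM i
      have b2 := congrFun hνM j
      have k1 := congrFun hkill i
      have k2 := congrFun hkill j
      simp only [Pi.smul_apply, Pi.add_apply, Pi.zero_apply, smul_eq_mul] at a1 a2 b1 b2 k1 k2
      simp only [D]
      linear_combination ((s : ℤ) * (ν ᵥ* M) j) * a1 + ((μ ᵥ* M) i + (-(ρ : ℤ)) * μ i) * b2
        - ((s : ℤ) * (ν ᵥ* M) i) * a2 - ((μ ᵥ* M) j + (-(ρ : ℤ)) * μ j) * b1
        + ((μ ᵥ* M) i + (-(ρ : ℤ)) * μ i) * k2 - ((μ ᵥ* M) j + (-(ρ : ℤ)) * μ j) * k1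
    have hρ' : (ρ : ℤ) ≤ s - 1 := by omega
    have hpos : 0 < (ρ : ℤ) * ρ + b * ρ + 1 := by
      nlinarith [mul_self_nonneg (2 * (ρ : ℤ) + b)]
    have hlt : (ρ : ℤ) * ρ + b * ρ + 1 < (s : ℤ) * s := by
      have h2 : (2 : ℤ) ≤ s := by exact_mod_cast hs.two_le
      nlinarith
    have hDν : D ν i j ≠ 0 := fun h0 => by
      rw [h0, mul_zero, eq_comm, mul_eq_zero] at hrec
      exact hrec.elim hpos.ne' hD
    have hlt' : (D ν i j).natAbs < n := by
      have h3 := congrArg Int.natAbs hrec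
      rw [Int.natAbs_mul, Int.natAbs_mul ((ρ : ℤ) * ρ + b * ρ + 1), hn] at h3
      have h4 : ((ρ : ℤ) * ρ + b * ρ + 1).natAbs < ((s : ℤ) * s).natAbs := Int.natAbs_lt_natAbs_of_nonneg_of_lt hpos.le hlt
      by_contra hge
      have h5 := Nat.mul_le_mul_left ((s : ℤ) * s).natAbs (not_lt.1 hge)
      rw [h3] at h5
      exact absurd (Nat.le_of_mul_le_mul_right h5 (hn ▸ Int.natAbs_pos.2 hD)) (not_le.2 h4)
    exact ih _ hlt' hPν (fun h0 => hDν (by simp [D, h0])) hkν hDν rfl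
  · push Not at h
    refine ⟨μ ᵥ* M + (q + b) • μ, hadd _ _ (hPM _ hμ) (hsmul _ _ hμ), fun h0 => ?_, ?_⟩
    · have := NeZero.mk hs.ne_zero
      obtain ⟨k, hk⟩ := h ((-(q + b) : ℤ) : ZMod s).val (ZMod.val_lt _)
      refine hk ((ZMod.intCast_zmod_eq_zero_iff_dvd _ _).1 ?_)
      have := congrFun h0 k
      simp only [Pi.add_apply, Pi.smul_apply, smul_eq_mul, Pi.zero_apply] at this
      push_cast [ZMod.natCast_zmod_val] at this ⊢
      linear_combination this
    · funext k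
      have hqz : ((q * q + b * q + 1 : ℤ) : ZMod s) = 0 := (ZMod.intCast_zmod_eq_zero_iff_dvd _ _).2 hq
      have h1 := congrArg (fun z : ℤ => (z : ZMod s)) (congrFun hkill k)
      have h2 := (RingHom.map_vecMul (Int.castRingHom (ZMod s)) M (μ ᵥ* M + (q + b) • μ) k).symm
      simp only [Function.comp_def, Int.coe_castRingHom] at h2
      simp only [Int.coe_castRingHom]
      rw [h2, Matrix.add_vecMul, Matrix.smul_vecMul]
      simp only [Pi.add_apply, Pi.smul_apply, smul_eq_mul, Pi.zero_apply] at h1 ⊢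
      push_cast at h1 hqz ⊢
      linear_combination h1 - (μ k : ZMod s) * hqz

end CfsgLib.Chevalley.F4Graph
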