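import Cfsg.Agent.Lib.Chevalley.CoxeterTorus.Instances

/-!
The Weyl group of type F₄ as quadruples of images of the fundamental roots: no element has two of the
cyclotomic factors of index 3, 4, 6.
-/

set_option autoImplicit false
set_option maxRecDepth 20000

namespace CfsgLib.Chevalley.F4Graph

open Tbl
open scoped Matrix
open CfsgLib.Chevalley.CoxeterTorus

local notation "T4" => Data.F4.tbl
local notation "hT4" => Data.F4.valid

/-- Search trees of numbers. -/
inductive Tree
  | leaf (n : ℕ)
  | node (p : ℕ) (l r : Tree)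

namespace Tree

def mem : Tree → ℕ → Bool
  | leaf m, n => Nat.beq n m
  | node p l r, n => bif Nat.blt n p then l.mem n else r.mem n

def all : Tree → (ℕ → Bool) → Bool
  | leaf m, f => f m
  | node _ l r, f => l.all f && r.all f

theorem all_mem {f : ℕ → Bool} : ∀ {t : Tree}, t.all f = true → ∀ {n : ℕ}, t.mem n = true → f n = true
  | leaf m, h, n, hn => by rw [Nat.eq_of_beq_eq_true hn]; exact h
  | node p l r, h, n, hn => by
    simp only [all, Bool.and_eq_true] at h
    simp only [mem] at hn
    cases hb : Nat.blt n p <;> rw [hb] at hn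
    · exact all_mem h.2 hn
    · exact all_mem h.1 hn

end Tree

/-- The simple reflections on the root indices. -/
def reflList : ℕ → List ℕ
  | 0 => [0, 1, 2, 7, 15, 16, 17, 3, 8, 9, 10, 18, 19, 20, 33, 4, 5, 6, 11, 12, 13, 21, 22, 23, 24, 25, 26, 34, 35,
    36, 41, 42, 43, 14, 27, 28, 29, 37, 38, 39, 44, 30, 31, 32, 40, 45, 46, 47]
  | 1 => [0, 1, 4, 3, 2, 5, 6, 8, 7, 11, 12, 9, 10, 14, 13, 15, 21, 22, 18, 19, 27, 16, 17, 23, 24, 30, 31, 20, 28,
    29, 25, 26, 32, 34, 33, 37, 38, 35, 36, 40, 39, 41, 42, 45, 44, 43, 46, 47]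
  | 2 => [0, 2, 1, 3, 5, 4, 6, 7, 9, 8, 10, 11, 13, 12, 14, 16, 15, 17, 18, 20, 19, 23, 25, 21, 26, 22, 24, 28, 27,
    29, 30, 32, 31, 33, 35, 34, 36, 37, 39, 38, 40, 41, 43, 42, 44, 46, 45, 47]
  | 3 => [1, 0, 2, 3, 4, 6, 5, 7, 8, 10, 9, 12, 11, 13, 14, 15, 17, 16, 19, 18, 20, 22, 21, 24, 23, 26, 25, 27, 29,
    28, 31, 30, 32, 33, 34, 36, 35, 38, 37, 39, 40, 42, 41, 43, 44, 45, 47, 46]
  | _ => []

def dec (k n : ℕ) : ℕ :=
  match k with
  | 0 => n / 110592
  | 1 => n / 2304 % 48
  | 2 => n / 48 % 48
  | _ => n % 48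

def enc (a b c d : ℕ) : ℕ := ((a * 48 + b) * 48 + c) * 48 + d

def stepCode (i n : ℕ) : ℕ :=
  let R := fun s => (reflList i).getD s 0
  enc (R (dec 0 n)) (R (dec 1 n)) (R (dec 2 n)) (R (dec 3 n))

abbrev Vec := ℤ × ℤ × ℤ × ℤ

def comp (x : Vec) : Fin (T4).rank → ℤ := fun j =>
  match j.val with
  | 0 => x.1
  | 1 => x.2.1
  | 2 => x.2.2.1
  | _ => x.2.2.2

def row (n : ℕ) (j : ℕ) (x : Vec) : ℤ :=
  (T4).co (dec 0 n) j * x.1 + (T4).co (dec 1 n) j * x.2.1 + (T4).co (dec 2 n) j * x.2.2.1 +
    (T4).co (dec 3 n) j * x.2.2.2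

def mv (n : ℕ) (x : Vec) : Vec := (row n 0 x, row n 1 x, row n 2 x, row n 3 x)

/-- `X² + b X + 1` at the matrix. -/
def quad (n : ℕ) (b : ℤ) (x : Vec) : Vec :=
  let y := mv n x
  let z := mv n y
  (z.1 + b * y.1 + x.1, z.2.1 + b * y.2.1 + x.2.1, z.2.2.1 + b * y.2.2.1 + x.2.2.1,
    z.2.2.2 + b * y.2.2.2 + x.2.2.2)

def isZero (x : Vec) : Bool :=
  decide (x.1 = 0) && decide (x.2.1 = 0) && decide (x.2.2.1 = 0) && decide (x.2.2.2 = 0)

def units : List Vec := [(1, 0, 0, 0), (0, 1, 0, 0), (0, 0, 1, 0), (0, 0, 0, 1)]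

def pairOk (n : ℕ) (b c : ℤ) : Bool :=
  units.any (fun x => !isZero (quad n b (quad n c x))) || units.all (fun x => isZero (quad n b x)) ||
    units.all (fun x => isZero (quad n c x))

def chunk0 : Tree :=
  (.node 859722 (.node 422382 (.node 415753 (.node 411390 (.node 409365 (.node 409319 (.node 409274 (.leaf
    409272) (.leaf 409274)) (.node 409321 (.leaf 409319) (.leaf 409321))) (.node 411336 (.node 409366 (.leaf
    409365) (.leaf 409366)) (.node 411343 (.leaf 411336) (.node 411383 (.leaf 411343) (.leaf 411383)))))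
    (.node 413504 (.node 411665 (.node 411664 (.leaf 411390) (.leaf 411664)) (.node 413498 (.leaf 411665)
    (.leaf 413498))) (.node 413598 (.node 413589 (.leaf 413504) (.leaf 413589)) (.node 413919 (.leaf 413598)
    (.node 413921 (.leaf 413919) (.leaf 413921)))))) (.node 418201 (.node 416175 (.node 415846 (.node 415760
    (.leaf 415753) (.leaf 415760)) (.node 415855 (.leaf 415846) (.leaf 415855))) (.node 417871 (.node 416176
    (.leaf 416175) (.leaf 416176)) (.node 417872 (.leaf 417871) (.node 418192 (.leaf 417872) (.leaf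
    418192))))) (.node 420128 (.node 418294 (.node 418287 (.leaf 418201) (.leaf 418287)) (.node 420126 (.leaf
    418294) (.leaf 420126))) (.node 420458 (.node 420449 (.leaf 420128) (.leaf 420449)) (.node 420543 (.leaf
    420458) (.node 420549 (.leaf 420543) (.leaf 420549))))))) (.node 837576 (.node 424728 (.node 422704
    (.node 422657 (.node 422383 (.leaf 422382) (.leaf 422383)) (.node 422664 (.leaf 422657) (.leaf 422664)))
    (.node 424681 (.node 422711 (.leaf 422704) (.leaf 422711)) (.node 424682 (.leaf 424681) (.node 424726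
    (.leaf 424682) (.leaf 424726))))) (.node 808394 (.node 424775 (.node 424773 (.leaf 424728) (.leaf
    424773)) (.node 808392 (.leaf 424775) (.leaf 808392))) (.node 808441 (.node 808439 (.leaf 808394) (.leaf
    808439)) (.node 808485 (.leaf 808441) (.node 808486 (.leaf 808485) (.leaf 808486)))))) (.node 839849
    (.node 838421 (.node 837623 (.node 837594 (.leaf 837576) (.leaf 837594)) (.node 837641 (.leaf 837623)
    (.leaf 837641))) (.node 839738 (.node 838422 (.leaf 838421) (.leaf 838422)) (.node 839755 (.leaf 839738)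
    (.node 839829 (.leaf 839755) (.leaf 839829))))) (.node 842011 (.node 840678 (.node 840676 (.leaf 839849)
    (.leaf 840676)) (.node 841993 (.leaf 840678) (.leaf 841993))) (.node 842106 (.node 842086 (.leaf 842011)
    (.leaf 842086)) (.node 842932 (.leaf 842106) (.node 842933 (.leaf 842932) (.leaf 842933)))))))) (.node
    950095 (.node 875737 (.node 862826 (.node 860644 (.node 860549 (.node 859723 (.leaf 859722) (.leaf
    859723)) (.node 860569 (.leaf 860549) (.leaf 860569))) (.node 861977 (.node 860662 (.leaf 860644) (.leaf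
    860662)) (.node 861979 (.leaf 861977) (.node 862806 (.leaf 861979) (.leaf 862806))))) (.node 864234
    (.node 862917 (.node 862900 (.leaf 862826) (.leaf 862900)) (.node 864233 (.leaf 862917) (.leaf 864233)))
    (.node 865032 (.node 865014 (.leaf 864234) (.leaf 865014)) (.node 865061 (.leaf 865032) (.node 865079
    (.leaf 865061) (.leaf 865079)))))) (.node 916734 (.node 875829 (.node 875782 (.node 875738 (.leaf 875737)
    (.leaf 875738)) (.node 875784 (.leaf 875782) (.leaf 875784))) (.node 916680 (.node 875831 (.leaf 875829)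
    (.leaf 875831)) (.node 916687 (.leaf 916680) (.node 916727 (.leaf 916687) (.leaf 916727))))) (.node
    932298 (.node 916865 (.node 916864 (.leaf 916734) (.leaf 916864)) (.node 932280 (.leaf 916865) (.leaf
    932280))) (.node 932345 (.node 932327 (.leaf 932298) (.leaf 932327)) (.node 932981 (.leaf 932345) (.node
    932982 (.leaf 932981) (.leaf 932982))))))) (.node 967961 (.node 952698 (.node 951266 (.node 950416 (.node
    950109 (.leaf 950095) (.leaf 950109)) (.node 950441 (.leaf 950416) (.leaf 950441))) (.node 952350 (.node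
    951270 (.leaf 951266) (.leaf 951270)) (.node 952365 (.leaf 952350) (.node 952673 (.leaf 952365) (.leaf
    952673))))) (.node 965709 (.node 953525 (.node 953522 (.leaf 952698) (.leaf 953522)) (.node 965706 (.leaf
    953525) (.leaf 965706))) (.node 966558 (.node 966533 (.leaf 965709) (.leaf 966533)) (.node 966866 (.leaf
    966558) (.node 966881 (.leaf 966866) (.leaf 966881)))))) (.node 977688 (.node 969122 (.node 968790 (.node
    967965 (.leaf 967961) (.leaf 967965)) (.node 968815 (.leaf 968790) (.leaf 968815))) (.node 977033 (.node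
    969136 (.leaf 969122) (.leaf 969136)) (.node 977034 (.leaf 977033) (.node 977670 (.leaf 977034) (.leaf
    977670))))) (.node 986239 (.node 977735 (.node 977717 (.leaf 977688) (.leaf 977717)) (.node 986238 (.leaf
    977735) (.leaf 986238))) (.node 986376 (.node 986369 (.leaf 986239) (.leaf 986369)) (.node 986416 (.leaf
    986376) (.node 986423 (.leaf 986416) (.leaf 986423)))))))))

def chunk1 : Tree :=
  (.node 1184539 (.node 1087577 (.node 1062894 (.node 1040681 (.node 1025199 (.node 1025061 (.node 1024976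
    (.leaf 1024970) (.leaf 1024976)) (.node 1025070 (.leaf 1025061) (.leaf 1025070))) (.node 1040570 (.node
    1025201 (.leaf 1025199) (.leaf 1025201)) (.node 1040587 (.leaf 1040570) (.node 1040661 (.leaf 1040587)
    (.leaf 1040661))))) (.node 1058398 (.node 1041318 (.node 1041316 (.leaf 1040681) (.leaf 1041316)) (.node
    1058384 (.leaf 1041318) (.leaf 1058384))) (.node 1058825 (.node 1058799 (.leaf 1058398) (.leaf 1058799))
    (.node 1059601 (.leaf 1058825) (.node 1059606 (.leaf 1059601) (.leaf 1059606)))))) (.node 1074942 (.node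
    1064113 (.node 1063169 (.node 1062910 (.leaf 1062894) (.leaf 1062910)) (.node 1063195 (.leaf 1063169)
    (.leaf 1063195))) (.node 1073995 (.node 1064116 (.leaf 1064113) (.leaf 1064116)) (.node 1073998 (.leaf
    1073995) (.node 1074916 (.leaf 1073998) (.leaf 1074916))))) (.node 1078510 (.node 1075217 (.node 1075201
    (.leaf 1074942) (.leaf 1075201)) (.node 1078505 (.leaf 1075217) (.leaf 1078505))) (.node 1079312 (.node
    1079286 (.leaf 1078510) (.leaf 1079286)) (.node 1079713 (.leaf 1079312) (.node 1079727 (.leaf 1079713)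
    (.leaf 1079727))))))) (.node 1148905 (.node 1096922 (.node 1088308 (.node 1088214 (.node 1087579 (.leaf
    1087577) (.leaf 1087579)) (.node 1088234 (.leaf 1088214) (.leaf 1088234))) (.node 1096782 (.node 1088325
    (.leaf 1088308) (.leaf 1088325)) (.node 1096784 (.leaf 1096782) (.node 1096913 (.leaf 1096784) (.leaf
    1096913))))) (.node 1133312 (.node 1097013 (.node 1097007 (.leaf 1096922) (.leaf 1097007)) (.node 1133305
    (.leaf 1097013) (.leaf 1133305))) (.node 1133359 (.node 1133350 (.leaf 1133312) (.leaf 1133350)) (.node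
    1133535 (.leaf 1133359) (.node 1133536 (.leaf 1133535) (.leaf 1133536)))))) (.node 1169370 (.node 1149652
    (.node 1148950 (.node 1148923 (.leaf 1148905) (.leaf 1148923)) (.node 1148970 (.leaf 1148950) (.leaf
    1148970))) (.node 1168928 (.node 1149653 (.leaf 1149652) (.leaf 1149653)) (.node 1168943 (.leaf 1168928)
    (.node 1169343 (.leaf 1168943) (.leaf 1169343))))) (.node 1171199 (.node 1170197 (.node 1170192 (.leaf
    1169370) (.leaf 1170192)) (.node 1171183 (.leaf 1170197) (.leaf 1171183))) (.node 1171531 (.node 1171504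
    (.leaf 1171199) (.leaf 1171504)) (.node 1172448 (.leaf 1171531) (.node 1172452 (.leaf 1172448) (.leaf
    1172452)))))))) (.node 1263680 (.node 1207327 (.node 1187648 (.node 1185792 (.node 1185460 (.node 1184543
    (.leaf 1184539) (.leaf 1184543)) (.node 1185487 (.leaf 1185460) (.leaf 1185487))) (.node 1186794 (.node
    1185808 (.leaf 1185792) (.leaf 1185808)) (.node 1186799 (.leaf 1186794) (.node 1187621 (.leaf 1186799)
    (.leaf 1187621))))) (.node 1198123 (.node 1188063 (.node 1188048 (.leaf 1187648) (.leaf 1188048)) (.node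
    1198122 (.leaf 1188063) (.leaf 1198122))) (.node 1198825 (.node 1198805 (.leaf 1198123) (.leaf 1198805))
    (.node 1198852 (.leaf 1198825) (.node 1198870 (.leaf 1198852) (.leaf 1198870)))))) (.node 1241737 (.node
    1207551 (.node 1207504 (.node 1207328 (.leaf 1207327) (.leaf 1207328)) (.node 1207513 (.leaf 1207504)
    (.leaf 1207513))) (.node 1241551 (.node 1207558 (.leaf 1207551) (.leaf 1207558)) (.node 1241552 (.leaf
    1241551) (.node 1241728 (.leaf 1241552) (.leaf 1241728))))) (.node 1261533 (.node 1241782 (.node 1241775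
    (.leaf 1241737) (.leaf 1241775)) (.node 1261519 (.leaf 1241782) (.leaf 1261519))) (.node 1261865 (.node
    1261840 (.leaf 1261533) (.leaf 1261840)) (.node 1262498 (.leaf 1261865) (.node 1262502 (.leaf 1262498)
    (.leaf 1262502))))))) (.node 1304201 (.node 1284141 (.node 1264753 (.node 1264095 (.node 1263694 (.leaf
    1263680) (.leaf 1263694)) (.node 1264121 (.leaf 1264095) (.leaf 1264121))) (.node 1284073 (.node 1264758
    (.leaf 1264753) (.leaf 1264758)) (.node 1284094 (.leaf 1284073) (.node 1284118 (.leaf 1284094) (.leaf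
    1284118))))) (.node 1292878 (.node 1285298 (.node 1285297 (.leaf 1284141) (.leaf 1285297)) (.node 1292877
    (.leaf 1285298) (.leaf 1292877))) (.node 1294057 (.node 1294034 (.leaf 1292878) (.leaf 1294034)) (.node
    1294081 (.leaf 1294057) (.node 1294102 (.leaf 1294081) (.leaf 1294102)))))) (.node 1307119 (.node 1305265
    (.node 1304838 (.node 1304206 (.leaf 1304201) (.leaf 1304206)) (.node 1304864 (.leaf 1304838) (.leaf
    1304864))) (.node 1306457 (.node 1305279 (.leaf 1305265) (.leaf 1305279)) (.node 1306461 (.leaf 1306457)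
    (.node 1307094 (.leaf 1306461) (.leaf 1307094))))) (.node 1317968 (.node 1307440 (.node 1307426 (.leaf
    1307119) (.leaf 1307426)) (.node 1317961 (.leaf 1307440) (.leaf 1317961))) (.node 1318015 (.node 1318006
    (.leaf 1317968) (.leaf 1318006)) (.node 1318191 (.leaf 1318015) (.node 1318192 (.leaf 1318191) (.leaf
    1318192)))))))))

def chunk2 : Tree :=
  (.node 1513966 (.node 1417002 (.node 1392362 (.node 1370154 (.node 1350111 (.node 1350017 (.node 1349888
    (.leaf 1349886) (.leaf 1349888)) (.node 1350026 (.leaf 1350017) (.leaf 1350026))) (.node 1369854 (.node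
    1350117 (.leaf 1350111) (.leaf 1350117)) (.node 1369869 (.leaf 1369854) (.node 1370129 (.leaf 1369869)
    (.leaf 1370129))))) (.node 1374239 (.node 1370837 (.node 1370834 (.leaf 1370154) (.leaf 1370834)) (.node
    1374224 (.leaf 1370837) (.leaf 1374224))) (.node 1374666 (.node 1374639 (.leaf 1374239) (.leaf 1374639))
    (.node 1375344 (.leaf 1374666) (.node 1375349 (.leaf 1375344) (.leaf 1375349)))))) (.node 1404602 (.node
    1393632 (.node 1392453 (.node 1392383 (.leaf 1392362) (.leaf 1392383)) (.node 1392477 (.leaf 1392453)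
    (.leaf 1392477))) (.node 1403421 (.node 1393634 (.leaf 1393632) (.leaf 1393634)) (.node 1403423 (.leaf
    1403421) (.node 1404578 (.leaf 1403423) (.leaf 1404578))))) (.node 1412495 (.node 1404693 (.node 1404672
    (.leaf 1404602) (.leaf 1404672)) (.node 1412490 (.leaf 1404693) (.leaf 1412490))) (.node 1413200 (.node
    1413173 (.leaf 1412495) (.leaf 1413173)) (.node 1413600 (.leaf 1413200) (.node 1413615 (.leaf 1413600)
    (.leaf 1413615))))))) (.node 1480350 (.node 1428606 (.node 1417970 (.node 1417685 (.node 1417005 (.leaf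
    1417002) (.leaf 1417005)) (.node 1417710 (.leaf 1417685) (.leaf 1417710))) (.node 1428506 (.node 1417985
    (.leaf 1417970) (.leaf 1417985)) (.node 1428512 (.leaf 1428506) (.node 1428597 (.leaf 1428512) (.leaf
    1428597))))) (.node 1458223 (.node 1428737 (.node 1428735 (.leaf 1428606) (.leaf 1428735)) (.node 1458222
    (.leaf 1428737) (.leaf 1458222))) (.node 1458360 (.node 1458353 (.leaf 1458223) (.leaf 1458353)) (.node
    1458400 (.leaf 1458360) (.node 1458407 (.leaf 1458400) (.leaf 1458407)))))) (.node 1482955 (.node 1481425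
    (.node 1480673 (.node 1480366 (.leaf 1480350) (.leaf 1480366)) (.node 1480699 (.leaf 1480673) (.leaf
    1480699))) (.node 1482607 (.node 1481428 (.leaf 1481425) (.leaf 1481428)) (.node 1482623 (.leaf 1482607)
    (.node 1482928 (.leaf 1482623) (.leaf 1482928))))) (.node 1500719 (.node 1483684 (.node 1483680 (.leaf
    1482955) (.leaf 1483680)) (.node 1500696 (.leaf 1483684) (.leaf 1500696))) (.node 1500766 (.node 1500743
    (.leaf 1500719) (.leaf 1500743)) (.node 1501968 (.leaf 1500766) (.node 1501969 (.leaf 1501968) (.leaf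
    1501969)))))))) (.node 1593194 (.node 1539096 (.node 1523791 (.node 1515216 (.node 1515169 (.node 1513967
    (.leaf 1513966) (.leaf 1513967)) (.node 1515192 (.leaf 1515169) (.leaf 1515192))) (.node 1523035 (.node
    1515239 (.leaf 1515216) (.leaf 1515239)) (.node 1523039 (.leaf 1523035) (.node 1523764 (.leaf 1523039)
    (.leaf 1523764))))) (.node 1525294 (.node 1524112 (.node 1524096 (.leaf 1523791) (.leaf 1524096)) (.node
    1525291 (.leaf 1524112) (.leaf 1525291))) (.node 1526046 (.node 1526020 (.leaf 1525294) (.leaf 1526020))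
    (.node 1526353 (.leaf 1526046) (.node 1526369 (.leaf 1526353) (.leaf 1526369)))))) (.node 1566648 (.node
    1539280 (.node 1539143 (.node 1539103 (.leaf 1539096) (.leaf 1539103)) (.node 1539150 (.leaf 1539143)
    (.leaf 1539150))) (.node 1566601 (.node 1539281 (.leaf 1539280) (.leaf 1539281)) (.node 1566602 (.leaf
    1566601) (.node 1566646 (.leaf 1566602) (.leaf 1566646))))) (.node 1590958 (.node 1566695 (.node 1566693
    (.leaf 1566648) (.leaf 1566693)) (.node 1590937 (.leaf 1566695) (.leaf 1590937))) (.node 1591053 (.node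
    1591030 (.leaf 1590958) (.leaf 1591030)) (.node 1592017 (.leaf 1591053) (.node 1592018 (.leaf 1592017)
    (.leaf 1592018))))))) (.node 1629021 (.node 1595470 (.node 1594272 (.node 1593285 (.node 1593215 (.leaf
    1593194) (.leaf 1593215)) (.node 1593309 (.leaf 1593285) (.leaf 1593309))) (.node 1595400 (.node 1594274
    (.leaf 1594272) (.leaf 1594274)) (.node 1595423 (.leaf 1595400) (.node 1595447 (.leaf 1595423) (.leaf
    1595447))))) (.node 1626767 (.node 1596529 (.node 1596528 (.leaf 1595470) (.leaf 1596528)) (.node 1626766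
    (.leaf 1596529) (.leaf 1626766))) (.node 1627848 (.node 1627825 (.leaf 1626767) (.leaf 1627825)) (.node
    1627872 (.leaf 1627848) (.node 1627895 (.leaf 1627872) (.leaf 1627895)))))) (.node 1632265 (.node 1630080
    (.node 1629986 (.node 1629023 (.leaf 1629021) (.leaf 1629023)) (.node 1630010 (.leaf 1629986) (.leaf
    1630010))) (.node 1631277 (.node 1630101 (.leaf 1630080) (.leaf 1630101)) (.node 1631278 (.leaf 1631277)
    (.node 1632242 (.leaf 1631278) (.leaf 1632242))))) (.node 1649690 (.node 1632358 (.node 1632337 (.leaf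
    1632265) (.leaf 1632337)) (.node 1649688 (.leaf 1632358) (.leaf 1649688))) (.node 1649737 (.node 1649735
    (.leaf 1649690) (.leaf 1649735)) (.node 1649781 (.leaf 1649737) (.node 1649782 (.leaf 1649781) (.leaf
    1649782)))))))))

def chunk3 : Tree :=
  (.node 2182106 (.node 2080590 (.node 2023773 (.node 2020398 (.node 2015908 (.node 2015861 (.node 2015179
    (.leaf 2015178) (.leaf 2015179)) (.node 2015881 (.leaf 2015861) (.leaf 2015881))) (.node 2019546 (.node
    2015926 (.leaf 2015908) (.leaf 2015926)) (.node 2019549 (.leaf 2019546) (.node 2020373 (.leaf 2019549)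
    (.leaf 2020373))))) (.node 2021710 (.node 2020529 (.node 2020514 (.leaf 2020398) (.leaf 2020514)) (.node
    2021707 (.leaf 2020529) (.leaf 2021707))) (.node 2022654 (.node 2022628 (.leaf 2021710) (.leaf 2022628))
    (.node 2022769 (.leaf 2022654) (.node 2022785 (.leaf 2022769) (.leaf 2022785)))))) (.node 2073885 (.node
    2024977 (.node 2024930 (.node 2023774 (.leaf 2023773) (.leaf 2023774)) (.node 2024953 (.leaf 2024930)
    (.leaf 2024953))) (.node 2073817 (.node 2024998 (.leaf 2024977) (.leaf 2024998)) (.node 2073838 (.leaf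
    2073817) (.node 2073862 (.leaf 2073838) (.leaf 2073862))))) (.node 2078350 (.node 2075042 (.node 2075041
    (.leaf 2073885) (.leaf 2075041)) (.node 2078334 (.leaf 2075042) (.leaf 2078334))) (.node 2078491 (.node
    2078465 (.leaf 2078350) (.leaf 2078465)) (.node 2079409 (.leaf 2078491) (.node 2079412 (.leaf 2079409)
    (.leaf 2079412))))))) (.node 2127881 (.node 2082954 (.node 2081570 (.node 2080721 (.node 2080605 (.leaf
    2080590) (.leaf 2080605)) (.node 2080746 (.leaf 2080721) (.leaf 2080746))) (.node 2082889 (.node 2081573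
    (.leaf 2081570) (.leaf 2081573)) (.node 2082907 (.leaf 2082889) (.node 2082934 (.leaf 2082907) (.leaf
    2082934))))) (.node 2123515 (.node 2083637 (.node 2083636 (.leaf 2082954) (.leaf 2083636)) (.node 2123513
    (.leaf 2083637) (.leaf 2123513))) (.node 2124170 (.node 2124150 (.leaf 2123515) (.leaf 2124150)) (.node
    2124244 (.leaf 2124170) (.node 2124261 (.leaf 2124244) (.leaf 2124261)))))) (.node 2133199 (.node 2128850
    (.node 2128662 (.node 2127885 (.leaf 2127881) (.leaf 2127885)) (.node 2128687 (.leaf 2128662) (.leaf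
    2128687))) (.node 2132251 (.node 2128864 (.leaf 2128850) (.leaf 2128864)) (.node 2132255 (.leaf 2132251)
    (.node 2133172 (.leaf 2132255) (.leaf 2133172))))) (.node 2134319 (.node 2133376 (.node 2133360 (.leaf
    2133199) (.leaf 2133360)) (.node 2134317 (.leaf 2133376) (.leaf 2134317))) (.node 2135498 (.node 2135474
    (.leaf 2134319) (.leaf 2135474)) (.node 2135568 (.leaf 2135498) (.node 2135589 (.leaf 2135568) (.leaf
    2135589)))))))) (.node 2240634 (.node 2193434 (.node 2186827 (.node 2183376 (.node 2182197 (.node 2182127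
    (.leaf 2182106) (.leaf 2182127)) (.node 2182221 (.leaf 2182197) (.leaf 2182221))) (.node 2186623 (.node
    2183378 (.leaf 2183376) (.leaf 2183378)) (.node 2186639 (.leaf 2186623) (.node 2186800 (.leaf 2186639)
    (.leaf 2186800))))) (.node 2191149 (.node 2187748 (.node 2187744 (.leaf 2186827) (.leaf 2187744)) (.node
    2191135 (.leaf 2187748) (.leaf 2191135))) (.node 2191337 (.node 2191312 (.leaf 2191149) (.leaf 2191312))
    (.node 2192114 (.leaf 2191337) (.node 2192118 (.leaf 2192114) (.leaf 2192118)))))) (.node 2232504 (.node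
    2194180 (.node 2193525 (.node 2193451 (.leaf 2193434) (.leaf 2193451)) (.node 2193545 (.leaf 2193525)
    (.leaf 2193545))) (.node 2231849 (.node 2194182 (.leaf 2194180) (.leaf 2194182)) (.node 2231850 (.leaf
    2231849) (.node 2232486 (.leaf 2231850) (.leaf 2232486))))) (.node 2238382 (.node 2232551 (.node 2232533
    (.leaf 2232504) (.leaf 2232533)) (.node 2238377 (.leaf 2232551) (.leaf 2238377))) (.node 2239232 (.node
    2239206 (.leaf 2238382) (.leaf 2239206)) (.node 2239441 (.leaf 2239232) (.node 2239455 (.leaf 2239441)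
    (.leaf 2239455))))))) (.node 2297168 (.node 2246088 (.node 2241696 (.node 2241461 (.node 2240639 (.leaf
    2240634) (.leaf 2240639)) (.node 2241488 (.leaf 2241461) (.leaf 2241488))) (.node 2244862 (.node 2241711
    (.leaf 2241696) (.leaf 2241711)) (.node 2244863 (.leaf 2244862) (.node 2246065 (.leaf 2244863) (.leaf
    2246065))))) (.node 2290463 (.node 2246135 (.node 2246112 (.leaf 2246088) (.leaf 2246112)) (.node 2290440
    (.leaf 2246135) (.leaf 2290440))) (.node 2290510 (.node 2290487 (.leaf 2290463) (.leaf 2290487)) (.node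
    2291712 (.leaf 2290510) (.node 2291713 (.leaf 2291712) (.leaf 2291713)))))) (.node 2299673 (.node 2298240
    (.node 2297391 (.node 2297183 (.leaf 2297168) (.leaf 2297183)) (.node 2297418 (.leaf 2297391) (.leaf
    2297418))) (.node 2299424 (.node 2298245 (.leaf 2298240) (.leaf 2298245)) (.node 2299438 (.leaf 2299424)
    (.node 2299647 (.leaf 2299438) (.leaf 2299647))))) (.node 2304042 (.node 2300502 (.node 2300497 (.leaf
    2299673) (.leaf 2300497)) (.node 2304024 (.leaf 2300502) (.leaf 2304024))) (.node 2304089 (.node 2304071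
    (.leaf 2304042) (.leaf 2304071)) (.node 2304725 (.leaf 2304089) (.node 2304726 (.leaf 2304725) (.leaf
    2304726)))))))))

def chunk4 : Tree :=
  (.node 3172826 (.node 3068960 (.node 3016702 (.node 3008768 (.node 3004373 (.node 3004326 (.node 3003690
    (.leaf 3003689) (.leaf 3003690)) (.node 3004344 (.leaf 3004326) (.leaf 3004344))) (.node 3007913 (.node
    3004391 (.leaf 3004373) (.leaf 3004391)) (.node 3007918 (.leaf 3007913) (.node 3008742 (.leaf 3007918)
    (.leaf 3008742))))) (.node 3010175 (.node 3008991 (.node 3008977 (.leaf 3008768) (.leaf 3008977)) (.node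
    3010170 (.leaf 3008991) (.leaf 3010170))) (.node 3011024 (.node 3010997 (.leaf 3010175) (.leaf 3010997))
    (.node 3011232 (.leaf 3011024) (.node 3011247 (.leaf 3011232) (.leaf 3011247)))))) (.node 3062350 (.node
    3017952 (.node 3017905 (.node 3016703 (.leaf 3016702) (.leaf 3016703)) (.node 3017928 (.leaf 3017905)
    (.leaf 3017928))) (.node 3062280 (.node 3017975 (.leaf 3017952) (.leaf 3017975)) (.node 3062303 (.leaf
    3062280) (.node 3062327 (.leaf 3062303) (.leaf 3062327))))) (.node 3066719 (.node 3063553 (.node 3063552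
    (.leaf 3062350) (.leaf 3063552)) (.node 3066704 (.leaf 3063553) (.leaf 3066704))) (.node 3066954 (.node
    3066927 (.leaf 3066719) (.leaf 3066927)) (.node 3067776 (.leaf 3066954) (.node 3067781 (.leaf 3067776)
    (.leaf 3067781))))))) (.node 3116297 (.node 3075929 (.node 3070033 (.node 3069183 (.node 3068974 (.leaf
    3068960) (.leaf 3068974)) (.node 3069209 (.leaf 3069183) (.leaf 3069209))) (.node 3075864 (.node 3070038
    (.leaf 3070033) (.leaf 3070038)) (.node 3075882 (.leaf 3075864) (.node 3075911 (.leaf 3075882) (.leaf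
    3075911))))) (.node 3114235 (.node 3076566 (.node 3076565 (.leaf 3075929) (.leaf 3076565)) (.node 3114233
    (.leaf 3076566) (.leaf 3114233))) (.node 3114890 (.node 3114870 (.leaf 3114235) (.leaf 3114870)) (.node
    3114964 (.leaf 3114890) (.node 3114981 (.leaf 3114964) (.leaf 3114981)))))) (.node 3121615 (.node 3117266
    (.node 3117078 (.node 3116301 (.leaf 3116297) (.leaf 3116301)) (.node 3117103 (.leaf 3117078) (.leaf
    3117103))) (.node 3120667 (.node 3117280 (.leaf 3117266) (.leaf 3117280)) (.node 3120671 (.leaf 3120667)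
    (.node 3121588 (.leaf 3120671) (.leaf 3121588))))) (.node 3125039 (.node 3121792 (.node 3121776 (.leaf
    3121615) (.leaf 3121776)) (.node 3125037 (.leaf 3121792) (.leaf 3125037))) (.node 3126218 (.node 3126194
    (.leaf 3125039) (.leaf 3126194)) (.node 3126288 (.leaf 3126218) (.node 3126309 (.leaf 3126288) (.leaf
    3126309)))))))) (.node 3229003 (.node 3184154 (.node 3175243 (.node 3174096 (.node 3172917 (.node 3172847
    (.leaf 3172826) (.leaf 3172847)) (.node 3172941 (.leaf 3172917) (.leaf 3172941))) (.node 3175039 (.node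
    3174098 (.leaf 3174096) (.leaf 3174098)) (.node 3175055 (.leaf 3175039) (.node 3175216 (.leaf 3175055)
    (.leaf 3175216))))) (.node 3179565 (.node 3176164 (.node 3176160 (.leaf 3175243) (.leaf 3176160)) (.node
    3179551 (.leaf 3176164) (.leaf 3179551))) (.node 3179753 (.node 3179728 (.leaf 3179565) (.leaf 3179728))
    (.node 3180530 (.leaf 3179753) (.node 3180534 (.leaf 3180530) (.leaf 3180534)))))) (.node 3225481 (.node
    3184900 (.node 3184245 (.node 3184171 (.leaf 3184154) (.leaf 3184171)) (.node 3184265 (.leaf 3184245)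
    (.leaf 3184265))) (.node 3224778 (.node 3184902 (.leaf 3184900) (.leaf 3184902)) (.node 3224779 (.leaf
    3224778) (.node 3225461 (.leaf 3224779) (.leaf 3225461))))) (.node 3226845 (.node 3225526 (.node 3225508
    (.leaf 3225481) (.leaf 3225508)) (.node 3226842 (.leaf 3225526) (.leaf 3226842))) (.node 3227694 (.node
    3227669 (.leaf 3226845) (.leaf 3227669)) (.node 3227810 (.leaf 3227694) (.node 3227825 (.leaf 3227810)
    (.leaf 3227825))))))) (.node 3285630 (.node 3234553 (.node 3230065 (.node 3229924 (.node 3229006 (.leaf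
    3229003) (.leaf 3229006)) (.node 3229950 (.leaf 3229924) (.leaf 3229950))) (.node 3233373 (.node 3230081
    (.leaf 3230065) (.leaf 3230081)) (.node 3233374 (.leaf 3233373) (.node 3234530 (.leaf 3233374) (.leaf
    3234530))))) (.node 3283438 (.node 3234598 (.node 3234577 (.leaf 3234553) (.leaf 3234577)) (.node 3283417
    (.leaf 3234598) (.leaf 3283417))) (.node 3283485 (.node 3283462 (.leaf 3283438) (.leaf 3283462)) (.node
    3284641 (.leaf 3283485) (.node 3284642 (.leaf 3284641) (.leaf 3284642)))))) (.node 3288042 (.node 3286705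
    (.node 3285761 (.node 3285646 (.leaf 3285630) (.leaf 3285646)) (.node 3285787 (.leaf 3285761) (.leaf
    3285787))) (.node 3287886 (.node 3286708 (.leaf 3286705) (.leaf 3286708)) (.node 3287901 (.leaf 3287886)
    (.node 3288017 (.leaf 3287901) (.leaf 3288017))))) (.node 3292507 (.node 3288869 (.node 3288866 (.leaf
    3288042) (.leaf 3288866)) (.node 3292489 (.leaf 3288869) (.leaf 3292489))) (.node 3292554 (.node 3292534
    (.leaf 3292507) (.leaf 3292534)) (.node 3293236 (.leaf 3292554) (.node 3293237 (.leaf 3293236) (.leaf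
    3293237)))))))))

def chunk5 : Tree :=
  (.node 3806446 (.node 3716397 (.node 3680520 (.node 3676173 (.node 3658725 (.node 3658678 (.node 3658634
    (.leaf 3658633) (.leaf 3658634)) (.node 3658680 (.leaf 3658678) (.leaf 3658680))) (.node 3676057 (.node
    3658727 (.leaf 3658725) (.leaf 3658727)) (.node 3676078 (.leaf 3676057) (.node 3676150 (.leaf 3676078)
    (.leaf 3676150))))) (.node 3678335 (.node 3677138 (.node 3677137 (.leaf 3676173) (.leaf 3677137)) (.node
    3678314 (.leaf 3677138) (.leaf 3678314))) (.node 3678429 (.node 3678405 (.leaf 3678335) (.leaf 3678405))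
    (.node 3679392 (.leaf 3678429) (.node 3679394 (.leaf 3679392) (.leaf 3679394)))))) (.node 3712968 (.node
    3681648 (.node 3680567 (.node 3680543 (.leaf 3680520) (.leaf 3680543)) (.node 3680590 (.leaf 3680567)
    (.leaf 3680590))) (.node 3711886 (.node 3681649 (.leaf 3681648) (.leaf 3681649)) (.node 3711887 (.leaf
    3711886) (.node 3712945 (.leaf 3711887) (.leaf 3712945))))) (.node 3714143 (.node 3713015 (.node 3712992
    (.leaf 3712968) (.leaf 3712992)) (.node 3714141 (.leaf 3713015) (.leaf 3714141))) (.node 3715130 (.node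
    3715106 (.leaf 3714143) (.leaf 3715106)) (.node 3715200 (.leaf 3715130) (.node 3715221 (.leaf 3715200)
    (.leaf 3715221))))))) (.node 3782046 (.node 3741769 (.node 3717457 (.node 3717362 (.node 3716398 (.leaf
    3716397) (.leaf 3716398)) (.node 3717385 (.leaf 3717362) (.leaf 3717385))) (.node 3741720 (.node 3717478
    (.leaf 3717457) (.leaf 3717478)) (.node 3741722 (.leaf 3741720) (.node 3741767 (.leaf 3741722) (.leaf
    3741767))))) (.node 3769135 (.node 3741814 (.node 3741813 (.leaf 3741769) (.leaf 3741813)) (.node 3769134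
    (.leaf 3741814) (.leaf 3769134))) (.node 3769272 (.node 3769265 (.leaf 3769135) (.leaf 3769265)) (.node
    3769312 (.leaf 3769272) (.node 3769319 (.leaf 3769312) (.leaf 3769319)))))) (.node 3784651 (.node 3783121
    (.node 3782369 (.node 3782062 (.leaf 3782046) (.leaf 3782062)) (.node 3782395 (.leaf 3782369) (.leaf
    3782395))) (.node 3784303 (.node 3783124 (.leaf 3783121) (.leaf 3783124)) (.node 3784319 (.leaf 3784303)
    (.node 3784624 (.leaf 3784319) (.leaf 3784624))))) (.node 3793199 (.node 3785380 (.node 3785376 (.leaf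
    3784651) (.leaf 3785376)) (.node 3793176 (.leaf 3785380) (.leaf 3793176))) (.node 3793246 (.node 3793223
    (.leaf 3793199) (.leaf 3793223)) (.node 3794448 (.leaf 3793246) (.node 3794449 (.leaf 3794448) (.leaf
    3794449)))))))) (.node 3894800 (.node 3850008 (.node 3825487 (.node 3807696 (.node 3807649 (.node 3806447
    (.leaf 3806446) (.leaf 3806447)) (.node 3807672 (.leaf 3807649) (.leaf 3807672))) (.node 3824731 (.node
    3807719 (.leaf 3807696) (.leaf 3807719)) (.node 3824735 (.leaf 3824731) (.node 3825460 (.leaf 3824735)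
    (.leaf 3825460))))) (.node 3826990 (.node 3825808 (.node 3825792 (.leaf 3825487) (.leaf 3825792)) (.node
    3826987 (.leaf 3825808) (.leaf 3826987))) (.node 3827742 (.node 3827716 (.leaf 3826990) (.leaf 3827716))
    (.node 3828049 (.leaf 3827742) (.node 3828065 (.leaf 3828049) (.leaf 3828065)))))) (.node 3879818 (.node
    3850192 (.node 3850055 (.node 3850015 (.leaf 3850008) (.leaf 3850015)) (.node 3850062 (.leaf 3850055)
    (.leaf 3850062))) (.node 3879678 (.node 3850193 (.leaf 3850192) (.leaf 3850193)) (.node 3879680 (.leaf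
    3879678) (.node 3879809 (.leaf 3879680) (.leaf 3879809))))) (.node 3890445 (.node 3879909 (.node 3879903
    (.leaf 3879818) (.leaf 3879903)) (.node 3890430 (.leaf 3879909) (.leaf 3890430))) (.node 3890730 (.node
    3890705 (.leaf 3890445) (.leaf 3890705)) (.node 3891410 (.leaf 3890730) (.node 3891413 (.leaf 3891410)
    (.leaf 3891413))))))) (.node 3933066 (.node 3903837 (.node 3895920 (.node 3895215 (.node 3894815 (.leaf
    3894800) (.leaf 3894815)) (.node 3895242 (.leaf 3895215) (.leaf 3895242))) (.node 3903722 (.node 3895925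
    (.leaf 3895920) (.leaf 3895925)) (.node 3903743 (.leaf 3903722) (.node 3903813 (.leaf 3903743) (.leaf
    3903813))))) (.node 3914783 (.node 3904994 (.node 3904992 (.leaf 3903837) (.leaf 3904992)) (.node 3914781
    (.leaf 3904994) (.leaf 3914781))) (.node 3915962 (.node 3915938 (.leaf 3914783) (.leaf 3915938)) (.node
    3916032 (.leaf 3915962) (.node 3916053 (.leaf 3916032) (.leaf 3916053)))))) (.node 3938286 (.node 3934176
    (.node 3933749 (.node 3933071 (.leaf 3933066) (.leaf 3933071)) (.node 3933776 (.leaf 3933749) (.leaf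
    3933776))) (.node 3937578 (.node 3934191 (.leaf 3934176) (.leaf 3934191)) (.node 3937581 (.leaf 3937578)
    (.node 3938261 (.leaf 3937581) (.leaf 3938261))))) (.node 3958304 (.node 3938561 (.node 3938546 (.leaf
    3938286) (.leaf 3938546)) (.node 3958298 (.leaf 3938561) (.leaf 3958298))) (.node 3958398 (.node 3958389
    (.leaf 3958304) (.leaf 3958389)) (.node 3958527 (.leaf 3958398) (.node 3958529 (.leaf 3958527) (.leaf
    3958529)))))))))

def chunk6 : Tree :=
  (.node 4135963 (.node 4045913 (.node 4014313 (.node 4001321 (.node 3990447 (.node 3990400 (.node 3990224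
    (.leaf 3990223) (.leaf 3990224)) (.node 3990409 (.leaf 3990400) (.leaf 3990409))) (.node 4000975 (.node
    3990454 (.leaf 3990447) (.leaf 3990454)) (.node 4000989 (.leaf 4000975) (.node 4001296 (.leaf 4000989)
    (.leaf 4001296))))) (.node 4003150 (.node 4001958 (.node 4001954 (.leaf 4001321) (.leaf 4001954)) (.node
    4003136 (.leaf 4001958) (.leaf 4003136))) (.node 4003577 (.node 4003551 (.leaf 4003150) (.leaf 4003551))
    (.node 4004209 (.leaf 4003577) (.node 4004214 (.leaf 4004209) (.leaf 4004214)))))) (.node 4024297 (.node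
    4015537 (.node 4014358 (.node 4014334 (.leaf 4014313) (.leaf 4014334)) (.node 4014381 (.leaf 4014358)
    (.leaf 4014381))) (.node 4023117 (.node 4015538 (.leaf 4015537) (.leaf 4015538)) (.node 4023118 (.leaf
    4023117) (.node 4024274 (.leaf 4023118) (.leaf 4024274))))) (.node 4043662 (.node 4024342 (.node 4024321
    (.leaf 4024297) (.leaf 4024321)) (.node 4043657 (.leaf 4024342) (.leaf 4043657))) (.node 4044320 (.node
    4044294 (.leaf 4043662) (.leaf 4044294)) (.node 4044721 (.leaf 4044320) (.node 4044735 (.leaf 4044721)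
    (.leaf 4044735))))))) (.node 4109545 (.node 4066687 (.node 4046882 (.node 4046550 (.node 4045917 (.leaf
    4045913) (.leaf 4045917)) (.node 4046575 (.leaf 4046550) (.leaf 4046575))) (.node 4066633 (.node 4046896
    (.leaf 4046882) (.leaf 4046896)) (.node 4066640 (.leaf 4066633) (.node 4066678 (.leaf 4066640) (.leaf
    4066678))))) (.node 4100864 (.node 4066864 (.node 4066863 (.leaf 4066687) (.leaf 4066863)) (.node 4100857
    (.leaf 4066864) (.leaf 4100857))) (.node 4100911 (.node 4100902 (.leaf 4100864) (.leaf 4100902)) (.node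
    4101087 (.leaf 4100911) (.node 4101088 (.leaf 4101087) (.leaf 4101088)))))) (.node 4120794 (.node 4110292
    (.node 4109590 (.node 4109563 (.leaf 4109545) (.leaf 4109563)) (.node 4109610 (.leaf 4109590) (.leaf
    4109610))) (.node 4120352 (.node 4110293 (.leaf 4110292) (.leaf 4110293)) (.node 4120367 (.leaf 4120352)
    (.node 4120767 (.leaf 4120367) (.leaf 4120767))))) (.node 4122623 (.node 4121621 (.node 4121616 (.leaf
    4120794) (.leaf 4121616)) (.node 4122607 (.leaf 4121621) (.leaf 4122607))) (.node 4122955 (.node 4122928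
    (.leaf 4122623) (.leaf 4122928)) (.node 4123872 (.leaf 4122955) (.node 4123876 (.leaf 4123872) (.leaf
    4123876)))))))) (.node 4228688 (.node 4174879 (.node 4139072 (.node 4137216 (.node 4136884 (.node 4135967
    (.leaf 4135963) (.leaf 4135967)) (.node 4136911 (.leaf 4136884) (.leaf 4136911))) (.node 4138218 (.node
    4137232 (.leaf 4137216) (.leaf 4137232)) (.node 4138223 (.leaf 4138218) (.node 4139045 (.leaf 4138223)
    (.leaf 4139045))))) (.node 4158763 (.node 4139487 (.node 4139472 (.leaf 4139072) (.leaf 4139472)) (.node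
    4158762 (.leaf 4139487) (.leaf 4158762))) (.node 4159465 (.node 4159445 (.leaf 4158763) (.leaf 4159445))
    (.node 4159492 (.leaf 4159465) (.node 4159510 (.leaf 4159492) (.leaf 4159510)))))) (.node 4211502 (.node
    4175103 (.node 4175056 (.node 4174880 (.leaf 4174879) (.leaf 4174880)) (.node 4175065 (.leaf 4175056)
    (.leaf 4175065))) (.node 4211402 (.node 4175110 (.leaf 4175103) (.leaf 4175110)) (.node 4211408 (.leaf
    4211402) (.node 4211493 (.leaf 4211408) (.leaf 4211493))))) (.node 4220107 (.node 4211633 (.node 4211631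
    (.leaf 4211502) (.leaf 4211631)) (.node 4220090 (.leaf 4211633) (.leaf 4220090))) (.node 4220201 (.node
    4220181 (.leaf 4220107) (.leaf 4220181)) (.node 4220836 (.leaf 4220201) (.node 4220838 (.leaf 4220836)
    (.leaf 4220838))))))) (.node 4248809 (.node 4233499 (.node 4229905 (.node 4229103 (.node 4228702 (.leaf
    4228688) (.leaf 4228702)) (.node 4229129 (.leaf 4229103) (.leaf 4229129))) (.node 4233198 (.node 4229910
    (.leaf 4229905) (.leaf 4229910)) (.node 4233214 (.leaf 4233198) (.node 4233473 (.leaf 4233214) (.leaf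
    4233473))))) (.node 4244302 (.node 4234420 (.node 4234417 (.leaf 4233499) (.leaf 4234417)) (.node 4244299
    (.leaf 4234420) (.leaf 4244299))) (.node 4245246 (.node 4245220 (.leaf 4244302) (.leaf 4245220)) (.node
    4245505 (.leaf 4245246) (.node 4245521 (.leaf 4245505) (.leaf 4245521)))))) (.node 4267754 (.node 4250017
    (.node 4249590 (.node 4248814 (.leaf 4248809) (.leaf 4248814)) (.node 4249616 (.leaf 4249590) (.leaf
    4249616))) (.node 4267097 (.node 4250031 (.leaf 4250017) (.leaf 4250031)) (.node 4267099 (.leaf 4267097)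
    (.node 4267734 (.leaf 4267099) (.leaf 4267734))))) (.node 4283216 (.node 4267845 (.node 4267828 (.leaf
    4267754) (.leaf 4267828)) (.node 4283214 (.leaf 4267845) (.leaf 4283214))) (.node 4283354 (.node 4283345
    (.leaf 4283216) (.leaf 4283345)) (.node 4283439 (.leaf 4283354) (.node 4283445 (.leaf 4283439) (.leaf
    4283445)))))))))

def chunk7 : Tree :=
  (.node 4465482 (.node 4375433 (.node 4341534 (.node 4330745 (.node 4322176 (.node 4322039 (.node 4321999
    (.leaf 4321992) (.leaf 4321999)) (.node 4322046 (.leaf 4322039) (.leaf 4322046))) (.node 4330680 (.node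
    4322177 (.leaf 4322176) (.leaf 4322177)) (.node 4330698 (.leaf 4330680) (.node 4330727 (.leaf 4330698)
    (.leaf 4330727))))) (.node 4339293 (.node 4331382 (.node 4331381 (.leaf 4330745) (.leaf 4331381)) (.node
    4339279 (.leaf 4331382) (.leaf 4339279))) (.node 4339625 (.node 4339600 (.leaf 4339293) (.leaf 4339600))
    (.node 4340450 (.leaf 4339625) (.node 4340454 (.leaf 4340450) (.leaf 4340454)))))) (.node 4355742 (.node
    4342706 (.node 4341857 (.node 4341549 (.leaf 4341534) (.leaf 4341549)) (.node 4341882 (.leaf 4341857)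
    (.leaf 4341882))) (.node 4354890 (.node 4342709 (.leaf 4342706) (.leaf 4342709)) (.node 4354893 (.leaf
    4354890) (.node 4355717 (.leaf 4354893) (.leaf 4355717))))) (.node 4357149 (.node 4356065 (.node 4356050
    (.leaf 4355742) (.leaf 4356050)) (.node 4357145 (.leaf 4356065) (.leaf 4357145))) (.node 4357999 (.node
    4357974 (.leaf 4357149) (.leaf 4357974)) (.node 4358306 (.leaf 4357999) (.node 4358320 (.leaf 4358306)
    (.leaf 4358320))))))) (.node 4443336 (.node 4391688 (.node 4376117 (.node 4376070 (.node 4375434 (.leaf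
    4375433) (.leaf 4375434)) (.node 4376088 (.leaf 4376070) (.leaf 4376088))) (.node 4391550 (.node 4376135
    (.leaf 4376117) (.leaf 4376135)) (.node 4391551 (.leaf 4391550) (.node 4391681 (.leaf 4391551) (.leaf
    4391681))))) (.node 4432586 (.node 4391735 (.node 4391728 (.leaf 4391688) (.leaf 4391728)) (.node 4432584
    (.leaf 4391735) (.leaf 4432584))) (.node 4432633 (.node 4432631 (.leaf 4432586) (.leaf 4432631)) (.node
    4432677 (.leaf 4432633) (.node 4432678 (.leaf 4432677) (.leaf 4432678)))))) (.node 4445609 (.node 4444181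
    (.node 4443383 (.node 4443354 (.leaf 4443336) (.leaf 4443354)) (.node 4443401 (.leaf 4443383) (.leaf
    4443401))) (.node 4445498 (.node 4444182 (.leaf 4444181) (.leaf 4444182)) (.node 4445515 (.leaf 4445498)
    (.node 4445589 (.leaf 4445515) (.leaf 4445589))))) (.node 4447771 (.node 4446438 (.node 4446436 (.leaf
    4445609) (.leaf 4446436)) (.node 4447753 (.leaf 4446438) (.leaf 4447753))) (.node 4447866 (.node 4447846
    (.leaf 4447771) (.leaf 4447846)) (.node 4448692 (.leaf 4447866) (.node 4448693 (.leaf 4448692) (.leaf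
    4448693)))))))) (.node 4887866 (.node 4499929 (.node 4468586 (.node 4466404 (.node 4466309 (.node 4465483
    (.leaf 4465482) (.leaf 4465483)) (.node 4466329 (.leaf 4466309) (.leaf 4466329))) (.node 4467737 (.node
    4466422 (.leaf 4466404) (.leaf 4466422)) (.node 4467739 (.leaf 4467737) (.node 4468566 (.leaf 4467739)
    (.leaf 4468566))))) (.node 4469994 (.node 4468677 (.node 4468660 (.leaf 4468586) (.leaf 4468660)) (.node
    4469993 (.leaf 4468677) (.leaf 4469993))) (.node 4470792 (.node 4470774 (.leaf 4469994) (.leaf 4470774))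
    (.node 4470821 (.leaf 4470792) (.node 4470839 (.leaf 4470821) (.leaf 4470839)))))) (.node 4883689 (.node
    4500021 (.node 4499974 (.node 4499930 (.leaf 4499929) (.leaf 4499930)) (.node 4499976 (.leaf 4499974)
    (.leaf 4499976))) (.node 4883640 (.node 4500023 (.leaf 4500021) (.leaf 4500023)) (.node 4883642 (.leaf
    4883640) (.node 4883687 (.leaf 4883642) (.leaf 4883687))))) (.node 4885711 (.node 4883734 (.node 4883733
    (.leaf 4883689) (.leaf 4883733)) (.node 4885704 (.leaf 4883734) (.leaf 4885704))) (.node 4885758 (.node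
    4885751 (.leaf 4885711) (.leaf 4885751)) (.node 4886032 (.leaf 4885758) (.node 4886033 (.leaf 4886032)
    (.leaf 4886033))))))) (.node 4894494 (.node 4890223 (.node 4888287 (.node 4887957 (.node 4887872 (.leaf
    4887866) (.leaf 4887872)) (.node 4887966 (.leaf 4887957) (.leaf 4887966))) (.node 4890121 (.node 4888289
    (.leaf 4888287) (.leaf 4888289)) (.node 4890128 (.leaf 4890121) (.node 4890214 (.leaf 4890128) (.leaf
    4890214))))) (.node 4892240 (.node 4890544 (.node 4890543 (.leaf 4890223) (.leaf 4890543)) (.node 4892239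
    (.leaf 4890544) (.leaf 4892239))) (.node 4892569 (.node 4892560 (.leaf 4892240) (.leaf 4892560)) (.node
    4892655 (.leaf 4892569) (.node 4892662 (.leaf 4892655) (.leaf 4892662)))))) (.node 4897032 (.node 4894911
    (.node 4894817 (.node 4894496 (.leaf 4894494) (.leaf 4894496)) (.node 4894826 (.leaf 4894817) (.leaf
    4894826))) (.node 4896750 (.node 4894917 (.leaf 4894911) (.leaf 4894917)) (.node 4896751 (.leaf 4896750)
    (.node 4897025 (.leaf 4896751) (.leaf 4897025))))) (.node 4899050 (.node 4897079 (.node 4897072 (.leaf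
    4897032) (.leaf 4897072)) (.node 4899049 (.leaf 4897079) (.leaf 4899049))) (.node 4899096 (.node 4899094
    (.leaf 4899050) (.leaf 4899094)) (.node 4899141 (.leaf 4899096) (.node 4899143 (.leaf 4899141) (.leaf
    4899143)))))))))


/-- The codes of the Weyl group. -/
def root : Tree :=
  (.node 3003689 (.node 1349886 (.node 1024970 chunk0 chunk1) (.node 2015178 chunk2 chunk3)) (.node 3990223 (.node 3658633 chunk4 chunk5) (.node 4321992 chunk6 chunk7)))

def stepOk (n : ℕ) : Bool :=
  root.mem (stepCode 0 n) && root.mem (stepCode 1 n) && root.mem (stepCode 2 n) && root.mem (stepCode 3 n)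

def polyOk (n : ℕ) : Bool := pairOk n 1 (-1) && pairOk n 0 (-1) && pairOk n 1 0

theorem chunk0_step : chunk0.all stepOk = true := by decide +kernel

theorem chunk0_poly : chunk0.all polyOk = true := by decide +kernel

theorem chunk1_step : chunk1.all stepOk = true := by decide +kernel

theorem chunk1_poly : chunk1.all polyOk = true := by decide +kernel

theorem chunk2_step : chunk2.all stepOk = true := by decide +kernel

theorem chunk2_poly : chunk2.all polyOk = true := by decide +kernel

theorem chunk3_step : chunk3.all stepOk = true := by decide +kernel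

theorem chunk3_poly : chunk3.all polyOk = true := by decide +kernel

theorem chunk4_step : chunk4.all stepOk = true := by decide +kernel

theorem chunk4_poly : chunk4.all polyOk = true := by decide +kernel

theorem chunk5_step : chunk5.all stepOk = true := by decide +kernel

theorem chunk5_poly : chunk5.all polyOk = true := by decide +kernel

theorem chunk6_step : chunk6.all stepOk = true := by decide +kernel

theorem chunk6_poly : chunk6.all polyOk = true := by decide +kernel

theorem chunk7_step : chunk7.all stepOk = true := by decide +kernel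

theorem chunk7_poly : chunk7.all polyOk = true := by decide +kernel


theorem reflList_eq : ∀ i : Fin (T4).rank, ∀ s : Fin (T4).n,
    (reflList i.val).getD s.val 0 = (T4).refl i.val s.val := by
  decide +kernel

theorem base_mem : root.mem 3712968 = true := by decide +kernel

theorem base_code : enc ((T4).simple 0) ((T4).simple 1) ((T4).simple 2) ((T4).simple 3) = 3712968 := by
  decide +kernel

theorem root_step : root.all stepOk = true := by
  simp only [root, Tree.all, chunk0_step, chunk1_step, chunk2_step, chunk3_step, chunk4_step, chunk5_step,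
    chunk6_step, chunk7_step, Bool.and_self]

theorem root_poly : root.all polyOk = true := by
  simp only [root, Tree.all, chunk0_poly, chunk1_poly, chunk2_poly, chunk3_poly, chunk4_poly, chunk5_poly,
    chunk6_poly, chunk7_poly, Bool.and_self]

/-- The code of a permutation of the roots. -/
def code (v : Equiv.Perm (Fin (T4).n)) : ℕ :=
  enc (v ((T4).simpF hT4 (⟨0, by decide⟩ : Fin (T4).rank))).val
    (v ((T4).simpF hT4 (⟨1, by decide⟩ : Fin (T4).rank))).val
    (v ((T4).simpF hT4 (⟨2, by decide⟩ : Fin (T4).rank))).val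
    (v ((T4).simpF hT4 (⟨3, by decide⟩ : Fin (T4).rank))).val

theorem n_eq : (T4).n = 48 := by decide +kernel

theorem dec_code (v : Equiv.Perm (Fin (T4).n)) (k : Fin (T4).rank) :
    dec k.val (code v) = (v ((T4).simpF hT4 k)).val := by
  have hlt : ∀ s : Fin (T4).n, s.val < 48 := fun s => lt_of_lt_of_eq s.2 n_eq
  have key : ∀ a b c d : ℕ, a < 48 → b < 48 → c < 48 → d < 48 →
      dec 0 (enc a b c d) = a ∧ dec 1 (enc a b c d) = b ∧ dec 2 (enc a b c d) = c ∧
        dec 3 (enc a b c d) = d := by
    intro a b c d ha hb hc hd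
    simp only [dec, enc]
    omega
  obtain ⟨h0, h1, h2, h3⟩ := key _ _ _ _ (hlt (v ((T4).simpF hT4 (⟨0, by decide⟩ : Fin (T4).rank))))
    (hlt (v ((T4).simpF hT4 (⟨1, by decide⟩ : Fin (T4).rank))))
    (hlt (v ((T4).simpF hT4 (⟨2, by decide⟩ : Fin (T4).rank))))
    (hlt (v ((T4).simpF hT4 (⟨3, by decide⟩ : Fin (T4).rank))))
  obtain ⟨k, hk⟩ := k
  have hk' : k < 4 := hk
  interval_cases k
  exacts [h0, h1, h2, h3]

theorem code_mem {v : Equiv.Perm (Fin (T4).n)} (hv : v ∈ (T4).WP hT4) : root.mem (code v) = true := by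
  have hstep : ∀ (i : Fin (T4).rank) (v : Equiv.Perm (Fin (T4).n)), root.mem (code v) = true →
      root.mem (code ((T4).refP hT4 i * v)) = true := by
    intro i v hv
    have h := Tree.all_mem root_step hv
    simp only [stepOk, Bool.and_eq_true] at h
    have e : code ((T4).refP hT4 i * v) = stepCode i.val (code v) := by
      have d0 := dec_code v ⟨0, by decide⟩
      have d1 := dec_code v ⟨1, by decide⟩
      have d2 := dec_code v ⟨2, by decide⟩
      have d3 := dec_code v ⟨3, by decide⟩
      simp only [stepCode]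
      rw [d0, d1, d2, d3, reflList_eq, reflList_eq, reflList_eq, reflList_eq]
      rfl
    rw [e]
    obtain ⟨k, hk⟩ := i
    have hk' : k < 4 := hk
    interval_cases k
    exacts [h.1.1.1, h.1.1.2, h.1.2, h.2]
  induction hv using Subgroup.closure_induction_left with
  | one =>
    rw [show code 1 = 3712968 from base_code]
    exact base_mem
  | mul_left x hx y _ ih => obtain ⟨i, rfl⟩ := hx; exact hstep i y ih
  | inv_mul_cancel x hx y _ ih => obtain ⟨i, rfl⟩ := hx; rw [refP_inv]; exact hstep i y ih

theorem comp_mv {v : Equiv.Perm (Fin (T4).n)} (x : Vec) :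
    mat T4 hT4 v *ᵥ comp x = comp (mv (code v) x) := by
  have d0 := dec_code v ⟨0, by decide⟩
  have d1 := dec_code v ⟨1, by decide⟩
  have d2 := dec_code v ⟨2, by decide⟩
  have d3 := dec_code v ⟨3, by decide⟩
  funext j
  refine (Fin.sum_univ_four (fun k : Fin 4 => mat T4 hT4 v j k * comp x k)).trans ?_
  obtain ⟨j, hj⟩ := j
  have hj' : j < 4 := hj
  interval_cases j <;>
    (simp only [comp, mv, row, mat, Matrix.of_apply]; rw [d0, d1, d2, d3]; rfl)

open Polynomial in
theorem comp_quad {v : Equiv.Perm (Fin (T4).n)} (b : ℤ) (x : Vec) :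
    aeval (mat T4 hT4 v) (Polynomial.X ^ 2 + C b * Polynomial.X + 1 : Polynomial ℤ) *ᵥ comp x = comp (quad (code v) b x) := by
  simp only [map_add, map_mul, aeval_X, aeval_C, map_one, pow_two, Matrix.add_mulVec, Matrix.one_mulVec,
    Algebra.algebraMap_eq_smul_one, ← Matrix.mulVec_mulVec, Matrix.smul_mulVec, comp_mv]
  funext j
  obtain ⟨j, hj⟩ := j
  have hj' : j < 4 := hj
  interval_cases j <;> rfl

theorem eq_zero_of_units {A : Matrix (Fin (T4).rank) (Fin (T4).rank) ℤ}
    (h : ∀ x ∈ units, A *ᵥ comp x = 0) : A = 0 := by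
  ext j k
  have e : ∀ k : Fin (T4).rank, ∃ x ∈ units, comp x = Pi.single k 1 := by decide +kernel
  obtain ⟨x, hx, hxe⟩ := e k
  have h1 := congrFun (h x hx) j
  rw [hxe] at h1
  have h2 := congrFun (Matrix.mulVec_single_one A k) j
  exact h2.symm.trans h1

theorem isZero_iff (x : Vec) : isZero x = true ↔ comp x = 0 := by
  obtain ⟨a, b, c, d⟩ := x
  simp only [isZero, Bool.and_eq_true, decide_eq_true_iff]
  refine ⟨fun h => ?_, fun h => ?_⟩
  · funext j
    fin_cases j <;> simp [comp, h]
  · have h4 : 4 ≤ (T4).rank := le_of_eq (by decide +kernel)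
    have e0 : comp (a, b, c, d) ⟨0, lt_of_lt_of_le (by decide) h4⟩ = 0 := congrFun h _
    have e1 : comp (a, b, c, d) ⟨1, lt_of_lt_of_le (by decide) h4⟩ = 0 := congrFun h _
    have e2 : comp (a, b, c, d) ⟨2, lt_of_lt_of_le (by decide) h4⟩ = 0 := congrFun h _
    have e3 : comp (a, b, c, d) ⟨3, lt_of_lt_of_le (by decide) h4⟩ = 0 := congrFun h _
    exact ⟨⟨⟨e0, e1⟩, e2⟩, e3⟩

open Polynomial in
theorem pair_zero_of_ok {v : Equiv.Perm (Fin (T4).n)} {b c : ℤ} (h : pairOk (code v) b c = true)
    (h0 : aeval (mat T4 hT4 v) ((Polynomial.X ^ 2 + C b * Polynomial.X + 1) * (Polynomial.X ^ 2 + C c * Polynomial.X + 1) : Polynomial ℤ) = 0) :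
    aeval (mat T4 hT4 v) (Polynomial.X ^ 2 + C b * Polynomial.X + 1 : Polynomial ℤ) = 0 ∨
      aeval (mat T4 hT4 v) (Polynomial.X ^ 2 + C c * Polynomial.X + 1 : Polynomial ℤ) = 0 := by
  simp only [pairOk, Bool.or_eq_true, List.any_eq_true, List.all_eq_true, Bool.not_eq_true'] at h
  rcases h with (⟨x, -, hx⟩ | h) | h
  · exfalso
    have h1 : comp (quad (code v) b (quad (code v) c x)) = 0 := by
      rw [← comp_quad, ← comp_quad, Matrix.mulVec_mulVec, ← map_mul, h0, Matrix.zero_mulVec]
    rw [(isZero_iff _).2 h1] at hx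
    exact Bool.noConfusion hx
  · exact Or.inl (eq_zero_of_units fun x hx => by rw [comp_quad]; exact (isZero_iff _).1 (h x hx))
  · exact Or.inr (eq_zero_of_units fun x hx => by rw [comp_quad]; exact (isZero_iff _).1 (h x hx))

open Polynomial in
theorem cyclotomic_four : cyclotomic 4 ℤ = Polynomial.X ^ 2 + C 0 * Polynomial.X + 1 := by
  have : Fact (Nat.Prime 2) := ⟨Nat.prime_two⟩
  rw [show (4 : ℕ) = 2 ^ (1 + 1) from rfl, cyclotomic_prime_pow_eq_geom_sum Nat.prime_two]
  simp [Finset.sum_range_succ]
  ring

open Polynomial in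
theorem cyclotomic_three' : cyclotomic 3 ℤ = Polynomial.X ^ 2 + C 1 * Polynomial.X + 1 := by
  simp [cyclotomic_three]

open Polynomial in
theorem cyclotomic_six' : cyclotomic 6 ℤ = Polynomial.X ^ 2 + C (-1) * Polynomial.X + 1 := by
  rw [cyclotomic_six]
  simp
  ring

open Polynomial in
/-- The product vanishes only if one factor does. -/
theorem weyl_pair {v : Equiv.Perm (Fin (T4).n)} (hv : v ∈ (T4).WP hT4) {k l : ℕ}
    (hkl : (k = 3 ∧ l = 4) ∨ (k = 3 ∧ l = 6) ∨ (k = 4 ∧ l = 6))
    (h0 : aeval (mat T4 hT4 v) (cyclotomic k ℤ * cyclotomic l ℤ) = 0) :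
    aeval (mat T4 hT4 v) (cyclotomic k ℤ) = 0 ∨ aeval (mat T4 hT4 v) (cyclotomic l ℤ) = 0 := by
  have h := Tree.all_mem root_poly (code_mem hv)
  simp only [polyOk, Bool.and_eq_true] at h
  rcases hkl with ⟨rfl, rfl⟩ | ⟨rfl, rfl⟩ | ⟨rfl, rfl⟩ <;>
    simp only [cyclotomic_three', cyclotomic_four, cyclotomic_six'] at h0 ⊢
  · exact pair_zero_of_ok h.2 h0
  · exact pair_zero_of_ok h.1.1 h0
  · exact pair_zero_of_ok h.1.2 h0

end CfsgLib.Chevalley.F4Graph
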