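import Cfsg.Agent.Lib.KnownB.Steinberg.Alt
import Cfsg.Agent.Lib.KnownB.RootCentralizer.Abelian
import Cfsg.Agent.Lib.KnownB.GL2.Count
import Cfsg.Agent.Lib.Chevalley.Levi
import Cfsg.Agent.Lib.Chevalley.CoxeterTorus.Instances
import Cfsg.Agent.Lib.Chevalley.Data.Steps
import Cfsg.Agent.Lib.Chevalley.Data.SuppCerts

/-!
The product of the long-root `SL₂` and its Levi complement of type C₃ in F₄(2ⁿ): pairs of commuting
elements of prime order.
-/

set_option autoImplicit false
set_option maxRecDepth 20000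

namespace CfsgLib.Chevalley.F4Graph

open Tbl
open CfsgLib.KnownB.Steinberg

local notation "T4" => Data.F4.tbl
local notation "hT4" => Data.F4.valid
local notation "hC4" => Data.F4.chkComm
local notation "hS4" => Data.F4.chkSupp

theorem card_sup_dvd {G : Type*} [Group G] (N K : Subgroup G) (h : K ≤ Subgroup.normalizer (N : Set G)) :
    Nat.card ↥(N ⊔ K) ∣ Nat.card ↥N * Nat.card ↥K := by
  set M := N ⊔ K
  have hM : M ≤ Subgroup.normalizer (N : Set G) := sup_le Subgroup.le_normalizer h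
  have : (N.subgroupOf M).Normal :=
    (Subgroup.normal_subgroupOf_iff_le_normalizer (le_sup_left : N ≤ M)).2 hM
  have h1 : (N.subgroupOf M).index ∣ Nat.card ↥(K.subgroupOf M) := by
    rw [← Subgroup.relIndex_top_right,
      show (⊤ : Subgroup ↥M) = K.subgroupOf M ⊔ N.subgroupOf M by
        rw [← Subgroup.subgroupOf_sup le_sup_right le_sup_left, sup_comm K N, Subgroup.subgroupOf_self],
      Subgroup.relIndex_sup_right]
    exact Subgroup.relIndex_dvd_card _ _
  rw [Nat.card_congr (Subgroup.subgroupOfEquivOfLe (le_sup_right : K ≤ M)).toEquiv] at h1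
  rw [← (N.subgroupOf M).card_mul_index,
    Nat.card_congr (Subgroup.subgroupOfEquivOfLe (le_sup_left : N ≤ M)).toEquiv]
  exact mul_dvd_mul_left _ h1

section Generic

variable {T : Tbl} {F : Type*} [Field F] (hT : T.Valid)
include hT

theorem sl2_injective {r : ℕ} (hr : r < T.n) (hrp : T.half ≤ r) {s : ℕ} (hs : s < T.n)
    (h1 : T.pair r s = 1) : Function.Injective (sl2Data (F := F) hT hr).hom := by
  rw [injective_iff_map_eq_one]
  intro g hg
  set S := sl2Data (F := F) hT hr with hS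
  change S.map g = 1 at hg
  have hxB : ∀ t, S.x t ∈ T.datum.borelSubgroup F := fun t => pos_le_borel hT hr hrp t
  have hdiag : ∀ c, S.h c ∈ T.datum.diagonalSubgroup F := fun c => by
    rw [diagonalSubgroup_eq hT]
    exact Subgroup.subset_closure ⟨r, hr, c, rfl⟩
  have hhB : ∀ c, S.h c ∈ T.datum.borelSubgroup F := fun c => Subgroup.mem_sup_right (hdiag c)
  have hdet := g.2
  rw [Matrix.det_fin_two] at hdet
  by_cases hc : g.1 1 0 = 0
  · have ha : g.1 0 0 ≠ 0 := fun ha => by rw [ha, hc] at hdet; simp at hdet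
    rw [S.map_zero hc (Units.mk0 _ ha) rfl] at hg
    have hx : S.x (g.1 0 1 / g.1 0 0) ∈ (⊥ : Subgroup (GL T.I F)) := by
      rw [← pos_inf_diag (T := T) (F := F) hT]
      refine Subgroup.mem_inf.2 ⟨?_, ?_⟩
      · rw [posUnipotent_rootGen hT]
        exact xU_mem_rootGen (P := fun r => T.half ≤ r) hr hrp _
      · rw [eq_inv_of_mul_eq_one_right hg]
        exact inv_mem (hdiag _)
    rw [Subgroup.mem_bot] at hx
    rw [hx, mul_one] at hg
    have e01 : g.1 0 1 / g.1 0 0 = 0 := xU_inj hT hr (hx.trans (xU_zero hT hr).symm)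
    have h2 : T.dU (T.hCh r (Units.mk0 _ ha)) * T.xU F s 1 = T.xU F s 1 := by
      show S.h _ * _ = _
      rw [hg, one_mul]
    rw [dU_hCh_xU hT hr _ hs, h1, zpow_one, mul_one] at h2
    have h3 : T.dU (T.hCh r (Units.mk0 _ ha)) = 1 := hg
    rw [h3, mul_one] at h2
    have e00 : g.1 0 0 = 1 := by
      have := xU_inj hT hs h2
      simpa using this
    rw [hc, e00] at hdet
    apply Subtype.ext
    ext i j
    fin_cases i <;> fin_cases j <;> simp_all
  · exfalso
    rw [S.map_ne (Units.mk0 _ hc) rfl] at hg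
    set a := g.1 0 0 / (Units.mk0 _ hc : F)
    set b := g.1 1 1 / (Units.mk0 _ hc : F)
    set h := S.h (-(Units.mk0 _ hc)⁻¹)
    have hn : S.n ∈ T.datum.borelSubgroup F := by
      have : S.n = (S.x a * h)⁻¹ * (S.x b)⁻¹ := by
        calc S.n = (S.x a * h)⁻¹ * (S.x a * h * S.n * S.x b) * (S.x b)⁻¹ := by group
          _ = _ := by rw [hg, mul_one]
      rw [this]
      exact mul_mem (inv_mem (mul_mem (hxB _) (hhB _))) (inv_mem (hxB _))
    have hneg : T.neg r < T.half := by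
      have h2n : T.n = 2 * T.half := rfl
      unfold neg
      omega
    have hy : S.y 1 ∈ (⊥ : Subgroup (GL T.I F)) := by
      rw [← borel_inf_neg (T := T) (F := F) hT]
      refine Subgroup.mem_inf.2 ⟨?_, ?_⟩
      · rw [S.y_eq]
        exact mul_mem (mul_mem hn (hxB _)) (inv_mem hn)
      · rw [negUnipotent_rootGen hT]
        exact xU_mem_rootGen (P := fun r => r < T.half) (neg_lt' hr) hneg _
    rw [Subgroup.mem_bot] at hy
    exact one_ne_zero (xU_inj hT (neg_lt' hr) (hy.trans (xU_zero hT (neg_lt' hr)).symm))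

/-- A prime divisor of the order of `SL₂(q)` is an element order in the two root groups. -/
theorem exists_order_sl2 [Fintype F] {r : ℕ} (hr : r < T.n) (hrp : T.half ≤ r) {s : ℕ} (hs : s < T.n)
    (h1 : T.pair r s = 1) {p : ℕ} [Fact p.Prime]
    (hp : p ∣ Fintype.card F * (Fintype.card F ^ 2 - 1)) :
    ∃ g ∈ T.rootGen F (fun u => u = r ∨ u = T.neg r), orderOf g = p := by
  classical
  rw [← CfsgLib.KnownB.GL2.card_SL (F := F)] at hp
  obtain ⟨g, hg⟩ := exists_prime_orderOf_dvd_card' (G := Matrix.SpecialLinearGroup (Fin 2) F) p hp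
  refine ⟨(sl2Data hT hr).hom g, ?_, by
    rw [orderOf_injective _ (sl2_injective hT hr hrp hs h1), hg]⟩
  have hx : ∀ t, T.xU F r t ∈ T.rootGen F (fun u => u = r ∨ u = T.neg r) := fun t =>
    xU_mem_rootGen (P := fun u => u = r ∨ u = T.neg r) hr (Or.inl rfl) t
  have hy : ∀ t, T.xU F (T.neg r) t ∈ T.rootGen F (fun u => u = r ∨ u = T.neg r) := fun t =>
    xU_mem_rootGen (P := fun u => u = r ∨ u = T.neg r) (neg_lt' hr) (Or.inr rfl) t
  have hn : ∀ t : F, T.nU F r t ∈ T.rootGen F (fun u => u = r ∨ u = T.neg r) := fun t =>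
    mul_mem (mul_mem (hx _) (hy _)) (hx _)
  have hh : ∀ c, (sl2Data hT hr).h c ∈ T.rootGen F (fun u => u = r ∨ u = T.neg r) := fun c => by
    show T.dU (T.hCh r c) ∈ _
    rw [← hU_eq hT hr c]
    exact mul_mem (hn _) (hn _)
  show (sl2Data hT hr).map g ∈ _
  by_cases hc : g.1 1 0 = 0
  · rw [SL2.Data.map, dif_pos hc]; exact mul_mem (hh _) (hx _)
  · rw [SL2.Data.map, dif_neg hc]
    exact mul_mem (mul_mem (mul_mem (hx _) (hh _)) (hn 1)) (hx _)

/-- The part of a parabolic subgroup outside the radical and the torus. -/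
theorem dvd_card_levi [Fintype F] (hC : T.chkComm = true) (hS : T.chkSupp = true) {p : ℕ} [Fact p.Prime]
    [CharP F p] (J : Set ℕ) {ℓ : ℕ} (hℓ : ℓ.Prime) (hℓp : ℓ ≠ p) (hℓq : ¬ ℓ ∣ Nat.card (T.datum.diagonalSubgroup F))
    (h : ℓ ∣ Nat.card (T.datum.parabolicSubgroup F J)) :
    ℓ ∣ Nat.card (T.rootGen F (T.datum.InRootSub J)) := by
  have hU : ¬ ℓ ∣ Nat.card (T.datum.unipotentRadical F J) := by
    intro hd
    have hle : T.datum.unipotentRadical F J ≤ T.rootGen F (fun r => T.half ≤ r) := by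
      rw [unipotentRadical_eq hT]
      exact rootGen_mono fun r _ hr => ((posRoot_iff hT).mp hr.1).2
    have h2 := hd.trans (Subgroup.card_dvd_of_le hle)
    rw [card_ge hT hC T.half T.half (Nat.two_mul _).symm le_rfl] at h2
    obtain ⟨m, hp, hm⟩ := FiniteField.card F p
    rw [hm, ← pow_mul] at h2
    exact hℓp ((Nat.prime_dvd_prime_iff_eq hℓ hp).1 (hℓ.dvd_of_dvd_pow h2))
  rw [← (levi_decomposition hT hS J).1, leviSubgroup_eq hT, sup_comm (T.datum.diagonalSubgroup F)] at h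
  have h3 := h.trans (card_sup_dvd _ _ (by
    refine le_trans ?_ (parabolic_le_normalizer hT hC hS J)
    rw [parabolic_eq_gen hT hS]
    exact sup_le (le_sup_of_le_right (rootGen_mono fun r _ h => Or.inr h)) le_sup_left))
  have h4 := ((hℓ.dvd_mul.1 h3).resolve_left hU).trans (card_sup_dvd _ _ (diag_le_normalizer hT _))
  exact (hℓ.dvd_mul.1 h4).resolve_right hℓq

end Generic

section F4

variable {F : Type*} [Field F] [Fintype F] [CharP F 2]

omit [Field F] [Fintype F] [CharP F 2] in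
theorem roots_check : ∀ s : Fin (T4).n, (∀ i : Fin (T4).rank, 3 ≤ i.val → (T4).co s.val i.val = 0) →
    s.val ≠ (T4).neg 47 ∧ s.val ≠ (T4).neg ((T4).neg 47) ∧
    ((T4).commT 47 s.val).all (fun c => decide (c.2.1 % 2 = 0)) = true ∧
    ((T4).commT ((T4).neg 47) s.val).all (fun c => decide (c.2.1 % 2 = 0)) = true := by
  decide +kernel

omit [Field F] [Fintype F] [CharP F 2] in
theorem root_facts : 47 < (T4).n ∧ 27 < (T4).n ∧ (T4).half ≤ 47 ∧ (T4).half ≤ 27 ∧
    (∃ s : Fin (T4).n, (T4).pair 47 s.val = 1) ∧ (∃ s : Fin (T4).n, (T4).pair 27 s.val = 1) ∧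
    (∀ i : Fin (T4).rank, 3 ≤ i.val → (T4).co 27 i.val = 0 ∧ (T4).co ((T4).neg 27) i.val = 0) := by
  decide +kernel

omit [Field F] [Fintype F] [CharP F 2] in
theorem inRootSub_iff {s : ℕ} (hs : s < (T4).n) :
    (T4).datum.InRootSub ↑(Finset.range 3) s ↔ ∀ i : Fin (T4).rank, 3 ≤ i.val → (T4).co s i.val = 0 := by
  rw [supp_inSub hT4 hS4 hs]
  refine ⟨fun h i hi => h i.val i.2 (by simp; omega), fun h i hi hiJ => h ⟨i, hi⟩ ?_⟩
  simp at hiJ
  omega

/-- The two factors commute. -/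
theorem factors_commute {a b : GL (T4).I F}
    (ha : a ∈ (T4).rootGen F (fun u => u = 47 ∨ u = (T4).neg 47))
    (hb : b ∈ (T4).rootGen F ((T4).datum.InRootSub ↑(Finset.range 3))) : a * b = b * a := by
  have h1 : (T4).rootGen F (fun u => u = 47 ∨ u = (T4).neg 47) ≤
      Subgroup.centralizer ((T4).rootGen F ((T4).datum.InRootSub ↑(Finset.range 3)) : Set (GL (T4).I F)) := by
    refine rootGen_le fun r hr hrr t => ?_
    have h2 : (T4).rootGen F ((T4).datum.InRootSub ↑(Finset.range 3)) ≤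
        Subgroup.centralizer {(T4).xU F r t} := by
      refine rootGen_le fun s hs hsJ u => ?_
      rw [Subgroup.mem_centralizer_singleton_iff]
      obtain ⟨n1, n2, c1, c2⟩ := roots_check ⟨s, hs⟩ ((inRootSub_iff hs).1 hsJ)
      rcases hrr with rfl | rfl
      · exact CfsgLib.KnownB.RootCentralizer.commute_even hT4 hC4 hr hs n1 c1 t u
      · exact CfsgLib.KnownB.RootCentralizer.commute_even hT4 hC4 hr hs n2 c2 t u
    exact Subgroup.mem_centralizer_iff.2 fun c hc =>
      Subgroup.mem_centralizer_singleton_iff.1 (h2 hc)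
  exact (Subgroup.mem_centralizer_iff.1 (h1 ha) b hb).symm

omit [Field F] [Fintype F] [CharP F 2] in
theorem chkPoly_three : chkPoly (Data.F4.steps.take 3) [2, 4, 6] = true := by decide +kernel

omit [CharP F 2] in
theorem card_parabolic_three {q : ℕ} (hq : Fintype.card F = q) :
    ∃ S : ℕ, Nat.card ((T4).datum.parabolicSubgroup F ↑(Finset.range 3)) =
        S * (q ^ (T4).half * Nat.card ((T4).datum.diagonalSubgroup F)) ∧
      (S : ℤ) * ((q : ℤ) - 1) ^ 3 = ((q : ℤ) ^ 2 - 1) * ((q : ℤ) ^ 4 - 1) * ((q : ℤ) ^ 6 - 1) := by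
  classical
  subst hq
  set J := Finset.range 3
  refine ⟨fixJ T4 F J ∅ 1, ?_, ?_⟩
  · have hPG : (T4).datum.parabolicSubgroup F ↑J ≤ (T4).datum.group F := by
      rw [parabolic_eq_gen hT4 hS4]
      exact sup_le (diag_le_group hT4) (rootGen_le fun r hr _ t => xU_mem_group hT4 hr t)
    have h1 := card_cosets_mul (borel_le_parabolic (T := T4) (F := F) J)
    have h2 : Nat.card {q : ↥((T4).datum.group F) ⧸ BG T4 F // ∃ x ∈ PG T4 F J, q = ↑x} =
        fixJ T4 F J ∅ 1 := by
      have h := parabolicIn_empty (T := T4) (F := F) hT4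
      simp only [fixJ, one_smul, and_true]
      rw [h]
    have h3 : Nat.card (BG T4 F) =
        Fintype.card F ^ (T4).half * Nat.card ((T4).datum.diagonalSubgroup F) := by
      rw [← card_borel hT4 hC4]
      exact Nat.card_congr (Subgroup.subgroupOfEquivOfLe (borel_le_group hT4)).toEquiv
    rw [← Nat.card_congr (Subgroup.subgroupOfEquivOfLe hPG).toEquiv, ← h2, ← h3]
    exact h1.symm
  · rw [fixJ_one hT4 hC4 (Finset.empty_subset J)]
    have hWJ : WJ T4 hT4 J = (T4).WK hT4 3 := by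
      simp only [WJ, WK, J, Finset.mem_range]
    have hsum : (∑ x ∈ Finset.univ.filter (fun x => x ∈ WJ T4 hT4 J ∧ PosOn T4 hT4 ∅ x),
        ((Fintype.card F : ℤ)) ^ (T4).invN x) =
        ∑ w : ↥((T4).WK hT4 3), (Fintype.card F : ℤ) ^ (T4).invN (w : Equiv.Perm (Fin (T4).n)) := by
      refine Finset.sum_subtype _ (fun x => ?_) _
      simp [hWJ, PosOn]
    push_cast
    rw [hsum, poincare_aux hT4 (Fintype.card F : ℤ) 3 (Data.F4.steps.take 3) rfl (fun j hj => by
      have := Data.F4.chkSteps j (lt_of_lt_of_le hj (by decide +kernel))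
      rwa [List.getD_eq_getElem?_getD, List.getElem?_take_of_lt hj, ← List.getD_eq_getElem?_getD])]
    have h := poly_identity chkPoly_three (Fintype.card F : ℤ)
    rw [show (Data.F4.steps.take 3).length = 3 from rfl, mul_comm] at h
    rw [h]
    simp [mul_assoc]

/-- Commuting elements of orders `r` and `s`. -/
theorem exists_commuting_levi {q : ℕ} (hq : Fintype.card F = q) {r s : ℕ} [Fact r.Prime] [hs : Fact s.Prime]
    (hr : r ∣ q * (q ^ 2 - 1)) (hs' : s ∣ q * (q ^ 2 - 1) ∨ s ∣ q ^ 4 - 1 ∨ s ∣ q ^ 6 - 1) :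
    ∃ a ∈ (T4).datum.group F, ∃ b ∈ (T4).datum.group F,
      orderOf a = r ∧ orderOf b = s ∧ a * b = b * a := by
  obtain ⟨h47, h27, p47, p27, ⟨s47, e47⟩, ⟨s27, e27⟩, hco⟩ := root_facts
  subst hq
  set q := Fintype.card F with hqdef
  have hG : ∀ P : ℕ → Prop, (T4).rootGen F P ≤ (T4).datum.group F := fun P =>
    rootGen_le fun _ hr _ t => xU_mem_group hT4 hr t
  obtain ⟨a, ha, hao⟩ := exists_order_sl2 (F := F) hT4 h47 p47 s47.2 e47 hr
  suffices ∃ b ∈ (T4).rootGen F ((T4).datum.InRootSub ↑(Finset.range 3)), orderOf b = s by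
    obtain ⟨b, hb, hbo⟩ := this
    exact ⟨a, hG _ ha, b, hG _ hb, hao, hbo, factors_commute ha hb⟩
  by_cases hsl : s ∣ q * (q ^ 2 - 1)
  · obtain ⟨b, hb, hbo⟩ := exists_order_sl2 (F := F) hT4 h27 p27 s27.2 e27 hsl
    refine ⟨b, rootGen_mono (fun u hu h => (inRootSub_iff hu).2 fun i hi => ?_) hb, hbo⟩
    rcases h with rfl | rfl
    exacts [(hco i hi).1, (hco i hi).2]
  have hq2 : 2 ≤ q := Fintype.one_lt_card
  have hsd : s ≠ 2 := by
    rintro rfl
    refine hsl (Dvd.dvd.mul_right ?_ _)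
    have : Fact (Nat.Prime 2) := ⟨Nat.prime_two⟩
    obtain ⟨m, -, hm⟩ := FiniteField.card F 2
    rw [hqdef, hm]
    exact dvd_pow_self _ m.2.ne'
  have hsq : ¬ s ∣ q - 1 := fun h => hsl (Dvd.dvd.mul_left (h.trans (by
    simpa using Nat.sub_dvd_pow_sub_pow q 1 2)) _)
  have hdiag : ¬ s ∣ Nat.card ((T4).datum.diagonalSubgroup F) := by
    intro h
    have h1 := diag_order (T := T4) hT4 hqdef.symm Data.F4.chkSmith
    have h2 : s ∣ (q - 1) ^ (T4).rank := h1 ▸ Dvd.dvd.mul_left h _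
    exact hsq (hs.out.dvd_of_dvd_pow h2)
  obtain ⟨S, hcard, hS⟩ := card_parabolic_three (F := F) (q := q) rfl
  have hsS : s ∣ S := by
    have h46 : (s : ℤ) ∣ ((q : ℤ) ^ 2 - 1) * ((q : ℤ) ^ 4 - 1) * ((q : ℤ) ^ 6 - 1) := by
      have hc : ∀ k, ((q ^ k - 1 : ℕ) : ℤ) = (q : ℤ) ^ k - 1 := fun k => by
        rw [Nat.cast_sub (Nat.one_le_pow _ _ (by omega))]; simp
      rcases hs'.resolve_left hsl with h | h
      · exact Dvd.dvd.mul_right (Dvd.dvd.mul_left (hc 4 ▸ Int.natCast_dvd_natCast.2 h) _) _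
      · exact Dvd.dvd.mul_left (hc 6 ▸ Int.natCast_dvd_natCast.2 h) _
    rw [← hS] at h46
    refine Int.natCast_dvd_natCast.1 (((Int.prime_iff_natAbs_prime.2 (by simpa using hs.out)).dvd_or_dvd
      h46).resolve_right fun h => hsq (Int.natCast_dvd_natCast.1 ?_))
    rw [Nat.cast_sub (by omega), Nat.cast_one]
    exact (Int.prime_iff_natAbs_prime.2 (by simpa using hs.out)).dvd_of_dvd_pow h
  have hfac : s ∣ Nat.card ((T4).rootGen F ((T4).datum.InRootSub ↑(Finset.range 3))) := by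
    have : Fact (Nat.Prime 2) := ⟨Nat.prime_two⟩
    exact dvd_card_levi hT4 hC4 hS4 (p := 2) _ hs.out hsd hdiag
      (hcard ▸ Dvd.dvd.mul_right hsS _)
  classical
  obtain ⟨b, hb⟩ := exists_prime_orderOf_dvd_card' (G := ↥((T4).rootGen F ((T4).datum.InRootSub ↑(Finset.range 3)))) s hfac
  exact ⟨b, b.2, by rw [Subgroup.orderOf_coe, hb]⟩

end F4

end CfsgLib.Chevalley.F4Graph
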