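import Cfsg.Agent.Lib.Chevalley.F4Graph.Torus
import Cfsg.Agent.Lib.Chevalley.F4Graph.WeylTable
import Cfsg.Agent.Lib.Chevalley.F4Graph.Levi
import Cfsg.Agent.Lib.Chevalley.Orders

/-!
The prime graph of F₄(2ⁿ).
-/

set_option autoImplicit false
set_option maxRecDepth 20000

namespace CfsgLib.Chevalley.F4Graph

open Tbl
open CfsgLib.Chevalley.CoxeterTorus

local notation "T4" => Data.F4.tbl
local notation "hT4" => Data.F4.valid

/-- Two elements of the group of these orders commute. -/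
def Adj (F : Type*) [Field F] (r s : ℕ) : Prop :=
  ∃ a ∈ (T4).datum.group F, ∃ b ∈ (T4).datum.group F, orderOf a = r ∧ orderOf b = s ∧ a * b = b * a

theorem Adj.symm {F : Type*} [Field F] {r s : ℕ} (h : Adj F r s) : Adj F s r := by
  obtain ⟨a, ha, b, hb, h1, h2, h3⟩ := h
  exact ⟨b, hb, a, ha, h2, h1, h3.symm⟩

theorem exists_order_iff {F : Type*} [Field F] {r s : ℕ} (hr : r.Prime) (hs : s.Prime) (hrs : r ≠ s) :
    (∃ x : ↥((T4).datum.group F), orderOf x = r * s) ↔ Adj F r s := by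
  constructor
  · rintro ⟨x, hx⟩
    have h0 : ∀ a b : ℕ, orderOf x = a * b → a ≠ 0 → orderOf (x ^ a) = b := fun a b h ha => by
      rw [orderOf_pow' x ha, h, Nat.gcd_eq_right (dvd_mul_right a b),
        Nat.mul_div_cancel_left b (Nat.pos_of_ne_zero ha)]
    refine ⟨_, (x ^ s).2, _, (x ^ r).2, ?_, ?_, ?_⟩
    · rw [Subgroup.orderOf_coe, h0 s r (by rw [hx, mul_comm]) hs.ne_zero]
    · rw [Subgroup.orderOf_coe, h0 r s hx hr.ne_zero]
    · rw [← Subgroup.coe_mul, ← Subgroup.coe_mul, ← pow_add, ← pow_add, Nat.add_comm]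
  · rintro ⟨a, ha, b, hb, h1, h2, h3⟩
    refine ⟨⟨a * b, mul_mem ha hb⟩, ?_⟩
    rw [← Subgroup.orderOf_coe, Commute.orderOf_mul_eq_mul_orderOf_of_coprime h3 (by
      rw [h1, h2]; exact (Nat.coprime_primes hr hs).2 hrs), h1, h2]

/-- The possible orders of `q` modulo a prime divisor of the order. -/
def orders : Finset ℕ := {1, 2, 3, 4, 6, 8, 12}

theorem eval_twelve (x : ℤ) : (Polynomial.cyclotomic 12 ℤ).eval x = x ^ 4 - x ^ 2 + 1 := by
  rw [show (12 : ℕ) = 6 * 2 from rfl,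
    ← Polynomial.cyclotomic_expand_eq_cyclotomic Nat.prime_two (show 2 ∣ 6 by norm_num) ℤ,
    Polynomial.expand_eval, Polynomial.cyclotomic_six]
  simp
  ring

variable {F : Type*} [Field F] [Fintype F] {n : ℕ} (hF : Fintype.card F = 2 ^ n)
include hF

theorem charTwo : CharP F 2 := by
  haveI : Fact (Nat.Prime 2) := ⟨Nat.prime_two⟩
  exact charP_of_card_eq_prime_pow hF

theorem coprime_q {r : ℕ} (hr : r.Prime) (hr2 : r ≠ 2) : r.Coprime (Fintype.card F) := by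
  rw [hF]
  exact ((Nat.coprime_primes hr Nat.prime_two).2 hr2).pow_right _

theorem order_mem (hn : 1 ≤ n) {r : ℕ} (hr : r.Prime) (hr2 : r ≠ 2)
    (hrG : r ∣ Nat.card ↥((T4).datum.group F)) :
    orderOf ((Fintype.card F : ℕ) : ZMod r) ∈ orders := by
  have h := group_order (F := F) hT4 Data.F4.chkComm rfl Data.F4.chkSmith Data.F4.steps_length
    Data.F4.chkSteps Data.F4.Reps.chkPoly_reps
  rw [Finset.prod_eq_one fun i _ => ?_, one_mul] at h
  swap
  · have hd : ∀ i : Fin (T4).rank, [1, 1, 1, 1].getD i.val 0 = 1 := by decide +kernel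
    rw [hd, Nat.gcd_one_right]
  rw [h] at hrG
  have hq : ¬ r ∣ Fintype.card F := (hr.coprime_iff_not_dvd).1 (coprime_q hF hr hr2)
  rcases hr.dvd_mul.1 hrG with h1 | h1
  · exact absurd (hr.dvd_of_dvd_pow h1) hq
  simp only [List.map_cons, List.map_nil, List.prod_cons, List.prod_nil, mul_one] at h1
  have key : ∀ d, r ∣ Fintype.card F ^ d - 1 → orderOf ((Fintype.card F : ℕ) : ZMod r) ∣ d := by
    intro d hd
    refine orderOf_dvd_of_pow_eq_one ?_
    rw [← ZMod.natCast_eq_zero_iff, Nat.cast_sub (Nat.one_le_pow _ _ Fintype.card_pos), Nat.cast_pow,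
      Nat.cast_one, sub_eq_zero] at hd
    exact hd
  obtain ⟨d, hd, he⟩ : ∃ d ∈ ({2, 6, 8, 12} : Finset ℕ),
      orderOf ((Fintype.card F : ℕ) : ZMod r) ∈ d.divisors := by
    rcases hr.dvd_mul.1 h1 with h2 | h2
    · exact ⟨2, by simp, Nat.mem_divisors.2 ⟨key _ h2, by norm_num⟩⟩
    rcases hr.dvd_mul.1 h2 with h3 | h3
    · exact ⟨6, by simp, Nat.mem_divisors.2 ⟨key _ h3, by norm_num⟩⟩
    rcases hr.dvd_mul.1 h3 with h4 | h4
    · exact ⟨8, by simp, Nat.mem_divisors.2 ⟨key _ h4, by norm_num⟩⟩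
    · exact ⟨12, by simp, Nat.mem_divisors.2 ⟨key _ h4, by norm_num⟩⟩
  exact (show ∀ d ∈ ({2, 6, 8, 12} : Finset ℕ), ∀ e ∈ d.divisors, e ∈ orders by decide +kernel) d hd _ he

omit hF in
theorem five_le {r e : ℕ} (hr : r.Prime) (he : orderOf ((Fintype.card F : ℕ) : ZMod r) = e) (h3 : 3 ≤ e) :
    5 ≤ r := by
  have : Fact r.Prime := ⟨hr⟩
  have hne : ((Fintype.card F : ℕ) : ZMod r) ≠ 0 := fun h => by
    rw [h, orderOf_zero] at he; omega
  have h1 : e ∣ r - 1 := he ▸ orderOf_dvd_of_pow_eq_one (ZMod.pow_card_sub_one_eq_one hne)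
  have h2 := hr.two_le
  have h4 := Nat.le_of_dvd (by omega) h1
  have h5 : r ≠ 4 := by rintro rfl; exact absurd hr (by norm_num)
  omega

omit hF in
theorem primitive {r e : ℕ} (he : orderOf ((Fintype.card F : ℕ) : ZMod r) = e) :
    IsPrimitiveRoot ((Fintype.card F : ℕ) : ZMod r) e := he ▸ IsPrimitiveRoot.orderOf _

omit hF in
theorem dvd_eval {r e : ℕ} (hr : r.Prime) (he0 : 0 < e)
    (he : orderOf ((Fintype.card F : ℕ) : ZMod r) = e) :
    (r : ℤ) ∣ (Polynomial.cyclotomic e ℤ).eval (Fintype.card F : ℤ) := by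
  have : Fact r.Prime := ⟨hr⟩
  have h := (primitive (F := F) he).isRoot_cyclotomic he0
  rw [Polynomial.IsRoot, ← Polynomial.map_cyclotomic e (Int.castRingHom (ZMod r)),
    ← map_natCast (Int.castRingHom (ZMod r)) (Fintype.card F), Polynomial.eval_map,
    Polynomial.eval₂_hom] at h
  exact (ZMod.intCast_zmod_eq_zero_iff_dvd _ _).1 h

/-- The value of `Φ_e` at `q` for `e` eight or twelve. -/
theorem exists_value (hn : 1 ≤ n) {e : ℕ} (he : e = 8 ∨ e = 12) :
    ∃ P : ℕ, (Polynomial.cyclotomic e ℤ).eval (Fintype.card F : ℤ) = (P : ℤ) ∧ P ≠ 0 ∧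
      ∀ p : ℕ, p.Prime → p ∣ P → ¬ p ∣ e := by
  set q := Fintype.card F
  have h2 : 2 ∣ q := hF ▸ dvd_pow_self 2 (by omega)
  have hodd : ∀ m, 2 ∣ m → ¬ 2 ∣ m + 1 := fun m hm => by omega
  rcases he with rfl | rfl
  · refine ⟨q ^ 4 + 1, by rw [eval_eight]; push_cast; ring, by omega, fun p hp hpP hpe => ?_⟩
    have : p ∣ 2 ^ 3 := hpe
    rw [(Nat.prime_dvd_prime_iff_eq hp Nat.prime_two).1 (hp.dvd_of_dvd_pow this)] at hpP
    exact hodd _ (dvd_pow h2 (by norm_num)) hpP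
  · have hq1 : 1 ≤ q ^ 2 := Nat.one_le_pow _ _ Fintype.card_pos
    refine ⟨q ^ 2 * (q ^ 2 - 1) + 1, by rw [eval_twelve]; push_cast [Nat.cast_sub hq1]; ring, by omega,
      fun p hp hpP hpe => ?_⟩
    have h12 : p ∣ 2 ^ 2 * 3 := hpe
    rcases hp.dvd_mul.1 h12 with h | h
    · rw [(Nat.prime_dvd_prime_iff_eq hp Nat.prime_two).1 (hp.dvd_of_dvd_pow h)] at hpP
      exact hodd _ (Dvd.dvd.mul_right (dvd_pow h2 (by norm_num)) _) hpP
    · rw [(Nat.prime_dvd_prime_iff_eq hp Nat.prime_three).1 h, ← ZMod.natCast_eq_zero_iff] at hpP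
      push_cast [Nat.cast_sub hq1] at hpP
      exact (show ∀ x : ZMod 3, x ^ 2 * (x ^ 2 - 1) + 1 ≠ 0 by decide) _ hpP

omit hF in
theorem dvd_value_iff {e P s : ℕ} (hs : s.Prime) (he0 : 0 < e)
    (hP : (Polynomial.cyclotomic e ℤ).eval (Fintype.card F : ℤ) = (P : ℤ))
    (hPe : ∀ p : ℕ, p.Prime → p ∣ P → ¬ p ∣ e) :
    s ∣ P ↔ orderOf ((Fintype.card F : ℕ) : ZMod s) = e := by
  constructor
  · intro hsP
    have : Fact s.Prime := ⟨hs⟩
    have : NeZero (e : ZMod s) := ⟨fun h => hPe s hs hsP ((ZMod.natCast_eq_zero_iff e s).1 h)⟩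
    refine ((Polynomial.isRoot_cyclotomic_iff (n := e)).1 ?_).eq_orderOf.symm
    rw [Polynomial.IsRoot, ← Polynomial.map_cyclotomic e (Int.castRingHom (ZMod s)),
      ← map_natCast (Int.castRingHom (ZMod s)) (Fintype.card F), Polynomial.eval_map,
      Polynomial.eval₂_hom, hP]
    simpa using (ZMod.natCast_eq_zero_iff P s).2 hsP
  · intro h
    exact Int.natCast_dvd_natCast.1 (hP ▸ dvd_eval hs he0 h)

/-- Commuting pairs when the order of `q` modulo `r` is eight or twelve. -/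
theorem adj_iff_regular (hn : 1 ≤ n) {r s e : ℕ} (hr : r.Prime) (hs : s.Prime) (hr2 : r ≠ 2)
    (hrG : r ∣ Nat.card ↥((T4).datum.group F))
    (hre : orderOf ((Fintype.card F : ℕ) : ZMod r) = e) (he : e = 8 ∨ e = 12) :
    Adj F r s ↔ orderOf ((Fintype.card F : ℕ) : ZMod s) = e := by
  classical
  have : Fact r.Prime := ⟨hr⟩
  have : Fact s.Prime := ⟨hs⟩
  obtain ⟨K, _, _, ι, σ, hσ, hfix, hK⟩ := exists_ext (F := F) rfl
  obtain ⟨P, hP, hP0, hPe⟩ := exists_value hF hn he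
  have hq1 : 1 ≤ Fintype.card F := Fintype.card_pos
  have he24 : e ∣ 24 := by rcases he with rfl | rfl <;> decide
  have h5 : 5 ≤ r := five_le hr hre (by omega)
  have hPE : P ∣ Nat.card Kˣ := by
    rw [Nat.card_units, Nat.card_eq_fintype_card, hK]
    exact (dvd_pow_sub_one hq1 hP).trans (Nat.pow_sub_one_dvd_pow_sub_one _ he24)
  have key : ∀ t ∈ (T4).datum.group F, orderOf t = r →
      ((∃ g ∈ (T4).datum.group F, orderOf g = s ∧ g * t = t * g) ↔ s ∣ P) := fun t ht hto =>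
    commuting_iff_dvd ι σ hσ hfix h5 (dvd_card_sub_one hq1 hK (primitive hre) he24) (primitive hre)
      (by omega) (by rcases he with rfl | rfl <;> decide +kernel) hP hP0 hPE
      (fun p hp hp2 => hPe p hp ((dvd_pow_self p two_ne_zero).trans hp2)) (coprime_q hF hr hr2) ht hto
  rw [← dvd_value_iff hs (by omega) hP hPe]
  constructor
  · rintro ⟨a, ha, b, hb, h1, h2, h3⟩
    exact (key a ha h1).1 ⟨b, hb, h2, h3.symm⟩
  · intro h
    obtain ⟨t, ht⟩ := exists_prime_orderOf_dvd_card' (G := ↥((T4).datum.group F)) r hrG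
    obtain ⟨g, hg, hgo, hgt⟩ := (key t t.2 (by rw [Subgroup.orderOf_coe, ht])).2 h
    exact ⟨t, t.2, g, hg, by rw [Subgroup.orderOf_coe, ht], hgo, hgt.symm⟩

/-- The same order three, four or six. -/
theorem adj_of_quadratic {r s e : ℕ} (hr : r.Prime) (hs : s.Prime) (hr2 : r ≠ 2)
    (hrG : r ∣ Nat.card ↥((T4).datum.group F))
    (hre : orderOf ((Fintype.card F : ℕ) : ZMod r) = e)
    (hse : orderOf ((Fintype.card F : ℕ) : ZMod s) = e) (he : e = 3 ∨ e = 4 ∨ e = 6) : Adj F r s := by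
  classical
  have : Fact r.Prime := ⟨hr⟩
  have : Fact s.Prime := ⟨hs⟩
  obtain ⟨K, _, _, ι, σ, hσ, hfix, hK⟩ := exists_ext (F := F) rfl
  have hq1 : 1 ≤ Fintype.card F := Fintype.card_pos
  have he24 : e ∣ 24 := by rcases he with rfl | rfl | rfl <;> decide
  obtain ⟨b, hb, hb', hcyc⟩ : ∃ b : ℤ, -1 ≤ b ∧ b ≤ 1 ∧
      Polynomial.cyclotomic e ℤ = Polynomial.X ^ 2 + Polynomial.C b * Polynomial.X + 1 := by
    rcases he with rfl | rfl | rfl
    exacts [⟨1, by norm_num, le_rfl, cyclotomic_three'⟩, ⟨0, by norm_num, by norm_num, cyclotomic_four⟩,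
      ⟨-1, le_rfl, by norm_num, cyclotomic_six'⟩]
  have hsq := dvd_eval hs (show 0 < e by omega) hse
  rw [hcyc] at hsq
  simp only [Polynomial.eval_add, Polynomial.eval_pow, Polynomial.eval_X, Polynomial.eval_mul,
    Polynomial.eval_C, Polynomial.eval_one, pow_two] at hsq
  obtain ⟨t, ht⟩ := exists_prime_orderOf_dvd_card' (G := ↥((T4).datum.group F)) r hrG
  have hto : orderOf (t : GL (T4).I F) = r := by rw [Subgroup.orderOf_coe, ht]
  obtain ⟨g, hg, hgo, hgt⟩ := exists_commuting_quadratic ι σ hσ hfix (five_le hr hre (by omega))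
    (dvd_card_sub_one hq1 hK (primitive hre) he24) (dvd_card_sub_one hq1 hK (primitive hse) he24)
    (primitive hre) hb hb' hcyc hsq (coprime_q hF hr hr2) t.2 hto
  exact ⟨t, t.2, g, hg, hto, hgo, hgt.symm⟩

omit hF in
/-- Two of the orders three, four and six. -/
theorem not_adj_of_pair {r s k l : ℕ} (hr : r.Prime) (hs : s.Prime) (hrs : r ≠ s)
    (hrk : orderOf ((Fintype.card F : ℕ) : ZMod r) = k)
    (hsl : orderOf ((Fintype.card F : ℕ) : ZMod s) = l)
    (hkl : (k = 3 ∧ l = 4) ∨ (k = 3 ∧ l = 6) ∨ (k = 4 ∧ l = 6)) : ¬ Adj F r s := by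
  classical
  rintro ⟨a, ha, b, hb, h1, h2, h3⟩
  have : Fact r.Prime := ⟨hr⟩
  have : Fact s.Prime := ⟨hs⟩
  obtain ⟨K, _, _, ι, σ, hσ, hfix, hK⟩ := exists_ext (F := F) rfl
  have hq1 : 1 ≤ Fintype.card F := Fintype.card_pos
  have hk24 : k ∣ 24 ∧ l ∣ 24 ∧ 0 < k ∧ 0 < l ∧ k ≠ l ∧ k.totient + l.totient = (T4).rank := by
    rcases hkl with ⟨rfl, rfl⟩ | ⟨rfl, rfl⟩ | ⟨rfl, rfl⟩ <;> decide +kernel
  obtain ⟨hk, hl, hk0, hl0, hne, htot⟩ := hk24
  obtain ⟨v, hv, d1, d2⟩ := exists_common_twist ι σ hσ hfix (five_le hr hrk (by omega))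
    (five_le hs hsl (by omega)) hrs (dvd_card_sub_one hq1 hK (primitive hrk) hk)
    (dvd_card_sub_one hq1 hK (primitive hsl) hl) (primitive hrk) (primitive hsl) ha hb h1 h2 h3
  rcases weyl_pair hv hkl (aeval_two_cyclotomic _ hk0 hl0 hne htot d1 d2) with h | h
  · exact det_ne_zero_of_aeval_eq_zero _ hne h d2
  · exact det_ne_zero_of_aeval_eq_zero _ hne.symm h d1

/-- One order at most two, the other not eight or twelve. -/
theorem adj_of_small {r s : ℕ} (hr : r.Prime) (hs : s.Prime)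
    (hr' : r = 2 ∨ orderOf ((Fintype.card F : ℕ) : ZMod r) ∈ ({1, 2} : Finset ℕ))
    (hs' : s = 2 ∨ orderOf ((Fintype.card F : ℕ) : ZMod s) ∈ ({1, 2, 3, 4, 6} : Finset ℕ))
    (hn : 1 ≤ n) : Adj F r s := by
  have : Fact r.Prime := ⟨hr⟩
  have : Fact s.Prime := ⟨hs⟩
  have := charTwo hF
  have h2 : 2 ∣ Fintype.card F := hF ▸ dvd_pow_self 2 (by omega)
  have key : ∀ (p d : ℕ), orderOf ((Fintype.card F : ℕ) : ZMod p) ∣ d → p ∣ Fintype.card F ^ d - 1 := by
    intro p d hd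
    rw [← ZMod.natCast_eq_zero_iff, Nat.cast_sub (Nat.one_le_pow _ _ Fintype.card_pos), Nat.cast_pow,
      Nat.cast_one, sub_eq_zero]
    exact orderOf_dvd_iff_pow_eq_one.1 hd
  refine exists_commuting_levi rfl ?_ ?_
  · rcases hr' with rfl | h
    · exact Dvd.dvd.mul_right h2 _
    · refine Dvd.dvd.mul_left (key r 2 ?_) _
      simp only [Finset.mem_insert, Finset.mem_singleton] at h
      rcases h with h | h <;> rw [h] <;> norm_num
  · rcases hs' with rfl | h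
    · exact Or.inl (Dvd.dvd.mul_right h2 _)
    · simp only [Finset.mem_insert, Finset.mem_singleton] at h
      rcases h with h | h | h | h | h
      · exact Or.inl (Dvd.dvd.mul_left (key s 2 (by rw [h]; norm_num)) _)
      · exact Or.inl (Dvd.dvd.mul_left (key s 2 (by rw [h])) _)
      · exact Or.inr (Or.inr (key s 6 (by rw [h]; norm_num)))
      · exact Or.inr (Or.inl (key s 4 (by rw [h])))
      · exact Or.inr (Or.inr (key s 6 (by rw [h])))

/-- The relation of non-adjacency on the orders of `q`. -/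
abbrev Rel (k l : ℕ) : Prop :=
  (k < l ∧ (l ∈ ({8, 12} : Finset ℕ) ∨ (l = 6 ∧ k ∈ ({3, 4} : Finset ℕ)) ∨ (l = 4 ∧ k = 3))) ∨
    (l < k ∧ (k ∈ ({8, 12} : Finset ℕ) ∨ (k = 6 ∧ l ∈ ({3, 4} : Finset ℕ)) ∨ (k = 4 ∧ l = 3)))

set_option synthInstance.maxSize 2000 in
set_option synthInstance.maxHeartbeats 200000 in
omit hF in
theorem classify : ∀ k ∈ orders, ∀ l ∈ orders,
    (Rel k l → k ≠ l ∧ ((k = 8 ∨ k = 12) ∨ (l = 8 ∨ l = 12) ∨
      ((k = 3 ∧ l = 4) ∨ (k = 3 ∧ l = 6) ∨ (k = 4 ∧ l = 6)) ∨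
      ((l = 3 ∧ k = 4) ∨ (l = 3 ∧ k = 6) ∨ (l = 4 ∧ k = 6)))) ∧
    (¬ Rel k l → (k = l ∧ ((k = 8 ∨ k = 12) ∨ (k = 3 ∨ k = 4 ∨ k = 6))) ∨
      (k ∈ ({1, 2} : Finset ℕ) ∧ l ∈ ({1, 2, 3, 4, 6} : Finset ℕ)) ∨
      (l ∈ ({1, 2} : Finset ℕ) ∧ k ∈ ({1, 2, 3, 4, 6} : Finset ℕ))) := by
  decide +kernel

theorem criterion (hn : 1 ≤ n) {r s : ℕ} (hr : r.Prime) (hs : s.Prime) (hrs : r ≠ s)
    (hrG : r ∣ Nat.card ↥((T4).datum.group F)) (hsG : s ∣ Nat.card ↥((T4).datum.group F)) :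
    (¬ ∃ x : ↥((T4).datum.group F), orderOf x = r * s) ↔
      ((r = 2 ∧ orderOf ((Fintype.card F : ℕ) : ZMod s) ∈ ({8, 12} : Finset ℕ)) ∨
       (s = 2 ∧ orderOf ((Fintype.card F : ℕ) : ZMod r) ∈ ({8, 12} : Finset ℕ)) ∨
       (r ≠ 2 ∧ s ≠ 2 ∧
         ((orderOf ((Fintype.card F : ℕ) : ZMod r) < orderOf ((Fintype.card F : ℕ) : ZMod s) ∧
            (orderOf ((Fintype.card F : ℕ) : ZMod s) ∈ ({8, 12} : Finset ℕ) ∨
              (orderOf ((Fintype.card F : ℕ) : ZMod s) = 6 ∧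
                orderOf ((Fintype.card F : ℕ) : ZMod r) ∈ ({3, 4} : Finset ℕ)) ∨
              (orderOf ((Fintype.card F : ℕ) : ZMod s) = 4 ∧
                orderOf ((Fintype.card F : ℕ) : ZMod r) = 3))) ∨
          (orderOf ((Fintype.card F : ℕ) : ZMod s) < orderOf ((Fintype.card F : ℕ) : ZMod r) ∧
            (orderOf ((Fintype.card F : ℕ) : ZMod r) ∈ ({8, 12} : Finset ℕ) ∨
              (orderOf ((Fintype.card F : ℕ) : ZMod r) = 6 ∧
                orderOf ((Fintype.card F : ℕ) : ZMod s) ∈ ({3, 4} : Finset ℕ)) ∨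
              (orderOf ((Fintype.card F : ℕ) : ZMod r) = 4 ∧
                orderOf ((Fintype.card F : ℕ) : ZMod s) = 3)))))) := by
  rw [exists_order_iff hr hs hrs]
  -- the case where one prime is two
  have two : ∀ {t : ℕ}, t.Prime → t ≠ 2 → t ∣ Nat.card ↥((T4).datum.group F) →
      (¬ Adj F 2 t ↔ orderOf ((Fintype.card F : ℕ) : ZMod t) ∈ ({8, 12} : Finset ℕ)) := by
    intro t ht ht2 htG
    by_cases he : orderOf ((Fintype.card F : ℕ) : ZMod t) ∈ ({8, 12} : Finset ℕ)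
    · simp only [he, iff_true]
      simp only [Finset.mem_insert, Finset.mem_singleton] at he
      intro h
      have h1 := (adj_iff_regular hF hn ht Nat.prime_two ht2 htG rfl he).1 h.symm
      have h0 : ((Fintype.card F : ℕ) : ZMod 2) = 0 :=
        (ZMod.natCast_eq_zero_iff _ 2).2 (hF ▸ dvd_pow_self 2 (by omega))
      rw [h0, orderOf_zero] at h1
      omega
    · simp only [he, iff_false, not_not]
      refine adj_of_small hF Nat.prime_two ht (Or.inl rfl) (Or.inr ?_) hn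
      exact (show ∀ e ∈ orders, e ∉ ({8, 12} : Finset ℕ) → e ∈ ({1, 2, 3, 4, 6} : Finset ℕ) by
        decide +kernel) _ (order_mem hF hn ht ht2 htG) he
  by_cases hr2 : r = 2
  · subst hr2
    have hs2 : s ≠ 2 := fun h => hrs h.symm
    simp only [hs2, ne_eq, not_true_eq_false, false_and, or_false, true_and]
    exact two hs hs2 hsG
  by_cases hs2 : s = 2
  · subst hs2
    simp only [hr2, ne_eq, not_true_eq_false, false_and, and_false, or_false, false_or, true_and]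
    rw [← two hr hr2 hrG]
    exact not_congr ⟨Adj.symm, Adj.symm⟩
  simp only [hr2, hs2, ne_eq, not_false_eq_true, true_and, false_and, false_or]
  have hk := order_mem hF hn hr hr2 hrG
  have hl := order_mem hF hn hs hs2 hsG
  obtain ⟨h1, h2⟩ := classify _ hk _ hl
  constructor
  · intro hna
    by_contra hR
    refine hna ?_
    rcases h2 hR with ⟨heq, he | he⟩ | ⟨ha, hb⟩ | ⟨ha, hb⟩
    · exact (adj_iff_regular hF hn hr hs hr2 hrG rfl he).2 heq.symm
    · exact adj_of_quadratic hF hr hs hr2 hrG rfl heq.symm he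
    · exact adj_of_small hF hr hs (Or.inr ha) (Or.inr hb) hn
    · exact (adj_of_small hF hs hr (Or.inr ha) (Or.inr hb) hn).symm
  · intro hR hadj
    obtain ⟨hne, he | he | he | he⟩ := h1 hR
    · exact hne ((adj_iff_regular hF hn hr hs hr2 hrG rfl he).1 hadj).symm
    · exact hne ((adj_iff_regular hF hn hs hr hs2 hsG rfl he).1 hadj.symm)
    · exact not_adj_of_pair hr hs hrs rfl rfl he hadj
    · exact not_adj_of_pair hs hr (Ne.symm hrs) rfl rfl he hadj.symm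

end CfsgLib.Chevalley.F4Graph
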