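import Cfsg.Agent.Lib.Chevalley.F4Graph.Lattice
import Cfsg.Agent.Lib.Chevalley.CoxeterTorus.Instances
import Cfsg.Agent.Lib.KnownB.FieldAut.Fixed
import Cfsg.Agent.Lib.Chevalley.SteinbergTorus

/-!
Elements of prime order in F₄(q) inside a split torus over the extension of degree twenty-four, with the
Weyl element by which the field map acts on them.
-/

set_option autoImplicit false
set_option maxRecDepth 20000

namespace CfsgLib.Chevalley.F4Graph

open Tbl
open scoped Matrix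
open CfsgLib.Chevalley.CoxeterTorus
open CfsgLib.KnownB.FieldAut (mapGL mapGL_inj map_torus map_group map_rootGen fixed_mem)

local notation "T4" => Data.F4.tbl
local notation "hT4" => Data.F4.valid
local notation "hC4" => Data.F4.chkComm

/-- The extension of degree 24 with its field map. -/
theorem exists_ext {F : Type*} [Field F] [Fintype F] {q : ℕ} (hF : Fintype.card F = q) :
    ∃ (K : Type) (_ : Field K) (_ : Fintype K) (ι : F →+* K) (σ : K →+* K),
      (∀ x, σ x = x ^ q) ∧ (∀ x, σ x = x ↔ x ∈ Set.range ι) ∧ Fintype.card K = q ^ 24 := by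
  classical
  obtain ⟨p, hchar⟩ := CharP.exists F
  obtain ⟨d, hp, hd⟩ := FiniteField.card F p
  have : Fact p.Prime := ⟨hp⟩
  let K := FiniteField.Extension F p 24
  letI : Fintype K := Fintype.ofFinite K
  let ι : F →+* K := algebraMap F K
  have : CharP K p := charP_of_injective_algebraMap ι.injective p
  have hq2 : 1 < q := hF ▸ Fintype.one_lt_card
  let σ : K →+* K := iterateFrobenius K p d
  have hσ : ∀ x : K, σ x = x ^ q := fun x => by
    rw [iterateFrobenius_def, ← hd, hF]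
  refine ⟨K, inferInstance, inferInstance, ι, σ, hσ, fun x => ?_, by
    rw [← Nat.card_eq_fintype_card, FiniteField.natCard_extension, Nat.card_eq_fintype_card, hF]⟩
  rw [hσ]
  refine ⟨fun hx => ?_, ?_⟩
  · by_contra hxr
    let Q : Polynomial K := Polynomial.X ^ q - Polynomial.X
    have hQ : Q ≠ 0 := FiniteField.X_pow_card_sub_X_ne_zero K hq2
    have hsub : insert x (Finset.univ.image ι) ⊆ Q.roots.toFinset := by
      intro y hy
      rw [Multiset.mem_toFinset, Polynomial.mem_roots hQ]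
      rw [Finset.mem_insert, Finset.mem_image] at hy
      simp only [Q, Polynomial.IsRoot, Polynomial.eval_sub, Polynomial.eval_pow, Polynomial.eval_X,
        sub_eq_zero]
      rcases hy with rfl | ⟨z, -, rfl⟩
      · exact hx
      · rw [← map_pow, ← hF, FiniteField.pow_card]
    have h1 := (Finset.card_le_card hsub).trans (Multiset.toFinset_card_le _)
    have h2 := Polynomial.card_roots' Q
    rw [Finset.card_insert_of_notMem (by simpa using fun z => fun h => hxr ⟨z, h⟩),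
      Finset.card_image_of_injective _ ι.injective, Finset.card_univ, hF] at h1
    rw [show Q.natDegree = q from FiniteField.X_pow_card_sub_X_natDegree_eq K hq2] at h2
    omega
  · rintro ⟨z, rfl⟩
    rw [← map_pow, ← hF, FiniteField.pow_card]

theorem coprime_WP {ℓ : ℕ} (hℓ : ℓ.Prime) (h5 : 5 ≤ ℓ) :
    ℓ.Coprime (Nat.card ((T4).WP hT4)) := by
  rw [F4_card_WP, show 1152 = 2 ^ 7 * 3 ^ 2 from rfl]
  exact Nat.Coprime.mul_right (((Nat.coprime_primes hℓ Nat.prime_two).2 (by omega)).pow_right _)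
    (((Nat.coprime_primes hℓ Nat.prime_three).2 (by omega)).pow_right _)

theorem dvd_card_sub_one {K : Type*} [Field K] [Fintype K] {q ℓ e : ℕ}
    (hq : 1 ≤ q) (hK : Fintype.card K = q ^ 24)
    (hr : IsPrimitiveRoot (q : ZMod ℓ) e) (he : e ∣ 24) : ℓ ∣ Fintype.card K - 1 := by
  rw [hK, ← ZMod.natCast_eq_zero_iff, Nat.cast_sub (Nat.one_le_pow _ _ hq), Nat.cast_pow, Nat.cast_one,
    sub_eq_zero]
  obtain ⟨c, hc⟩ := he
  rw [hc, pow_mul, hr.pow_eq_one, one_pow]

theorem tCh_mul {K : Type*} [Field K] (f g : Fin (T4).rank → Kˣ) (s : ℕ) :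
    tCh T4 (f * g) s = tCh T4 f s * tCh T4 g s := by
  simp [tCh, mul_zpow, Finset.prod_mul_distrib]

theorem val_add (μ ν : Fin (T4).rank → ℤ) (s : ℕ) : val T4 (μ + ν) s = val T4 μ s + val T4 ν s :=
  add_dotProduct _ _ _

theorem val_smul (c : ℤ) (μ : Fin (T4).rank → ℤ) (s : ℕ) : val T4 (c • μ) s = c * val T4 μ s :=
  smul_dotProduct _ _ _

theorem val_zero (s : ℕ) : val T4 0 s = 0 := zero_dotProduct _

section Log

variable {A : Type*} [CommGroup A] {ζ : A} {ℓ : ℕ} (hζ : orderOf ζ = ℓ) [Fact ℓ.Prime]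
include hζ

theorem zpow_congr {x y : ℤ} : ζ ^ x = ζ ^ y ↔ (x : ZMod ℓ) = (y : ZMod ℓ) := by
  rw [zpow_eq_zpow_iff_modEq, hζ, ZMod.intCast_eq_intCast_iff]

omit hζ in
theorem cast_val (μ : Fin (T4).rank → ℤ) (s : ℕ) : (val T4 μ s : ZMod ℓ) =
    (fun j => (μ j : ZMod ℓ)) ⬝ᵥ fun j : Fin (T4).rank => ((T4).co s j.val : ZMod ℓ) := by
  simp [val, dotProduct]

/-- An integral functional vanishing on the kernel, proportional to the given one modulo `ℓ`. -/
theorem exists_lattice (hcop : ℓ.Coprime (Nat.card ((T4).WP hT4))) (a : Fin (T4).rank → ℤ) :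
    ∃ μ : Fin (T4).rank → ℤ, (∀ β : Fin (T4).n, ζ ^ val T4 a β.val = 1 → val T4 μ β.val = 0) ∧
      ∃ c : ZMod ℓ, c ≠ 0 ∧ (fun j => (μ j : ZMod ℓ)) = c • fun j => (a j : ZMod ℓ) := by
  classical
  let S := stab T4 hT4 ζ a
  have : Fintype S := Fintype.ofFinite S
  let μ : Fin (T4).rank → ℤ := ∑ u : S, a ᵥ* mat T4 hT4 (u : Equiv.Perm (Fin (T4).n))
  have hμ : ∀ s : Fin (T4).n, val T4 μ s.val =
      ∑ u : S, val T4 a ((u : Equiv.Perm (Fin (T4).n)) s).val := by
    intro s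
    show (∑ u : S, a ᵥ* mat T4 hT4 (u : Equiv.Perm (Fin (T4).n))) ⬝ᵥ
      (fun j : Fin (T4).rank => (T4).co s.val j.val) = _
    rw [sum_dotProduct]
    exact Finset.sum_congr rfl fun u _ => (val_perm hT4 u.2.1 a s).symm
  refine ⟨μ, fun β hβ => ?_, Fintype.card S, ?_, funext fun j => ?_⟩
  · obtain ⟨u, hu, k, rfl⟩ := exists_simple_image hT4 β
    have hr : (T4).refP hT4 k ∈ (T4).WP hT4 := by
      have := pw_mem hT4 [k]
      simpa [pw_cons, pw_nil] using this
    have hρ : u * (T4).refP hT4 k * u⁻¹ ∈ S := by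
      refine ⟨mul_mem (mul_mem hu hr) (inv_mem hu), fun t => ?_⟩
      rw [Equiv.Perm.mul_apply, Equiv.Perm.mul_apply, val_perm hT4 hu, val_refP hT4,
        _root_.zpow_sub, mul_comm ((T4).ca _ _), _root_.zpow_mul]
      have hk : ζ ^ (a ᵥ* mat T4 hT4 u) k = 1 := by
        rw [← val_simple hT4 (a ᵥ* mat T4 hT4 u) k,
          show (T4).simple k.val = ((T4).simpF hT4 k).val from rfl, ← val_perm hT4 hu]
        exact hβ
      rw [hk, _root_.one_zpow, inv_one, mul_one, ← val_perm hT4 hu, ← Equiv.Perm.mul_apply, mul_inv_cancel,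
        Equiv.Perm.one_apply]
    have h1 : val T4 μ ((u * (T4).refP hT4 k * u⁻¹) (u ((T4).simpF hT4 k))).val =
        val T4 μ (u ((T4).simpF hT4 k)).val := by
      rw [hμ, hμ]
      exact Fintype.sum_equiv (Equiv.mulRight (⟨_, hρ⟩ : S)) _ _ fun v => by
        simp only [Equiv.coe_mulRight, Subgroup.coe_mul, Equiv.Perm.mul_apply]
    rw [Equiv.Perm.mul_apply, Equiv.Perm.mul_apply, ← Equiv.Perm.mul_apply u⁻¹, inv_mul_cancel,
      Equiv.Perm.one_apply, refP_simpF, WP_negF hT4 hu, val_negF hT4] at h1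
    omega
  · rw [← Nat.card_eq_fintype_card, Ne, ZMod.natCast_eq_zero_iff]
    intro h
    exact (Fact.out : ℓ.Prime).ne_one (Nat.eq_one_of_dvd_coprimes hcop dvd_rfl
      (h.trans (Subgroup.card_dvd_of_le fun u hu => hu.1)))
  · rw [← val_simple hT4 μ j, Pi.smul_apply, smul_eq_mul, ← val_simple hT4 a j,
      show (T4).simple j.val = ((T4).simpF hT4 j).val from rfl, hμ, Int.cast_sum,
      Finset.sum_congr rfl fun (u : S) _ => (zpow_congr hζ).1 (u.2.2 ((T4).simpF hT4 j)), Finset.sum_const,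
      Finset.card_univ, nsmul_eq_mul]

theorem eigen_of_rel {q : ℕ} (a : Fin (T4).rank → ℤ) {v : Equiv.Perm (Fin (T4).n)}
    (hv : v ∈ (T4).WP hT4)
    (hrel : ∀ u : Fin (T4).n, ζ ^ val T4 a (v u).val = (ζ ^ val T4 a u.val) ^ q) :
    (fun j => (a j : ZMod ℓ)) ᵥ* (mat T4 hT4 v).map (Int.castRingHom (ZMod ℓ)) =
      (q : ZMod ℓ) • fun j => (a j : ZMod ℓ) := by
  rw [cast_vecMul]
  funext k
  have h1 := hrel ((T4).simpF hT4 k)
  rw [← zpow_natCast (ζ ^ val T4 a _) q, ← _root_.zpow_mul, val_perm hT4 hv,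
    show ((T4).simpF hT4 k).val = (T4).simple k.val from rfl, val_simple hT4, val_simple hT4,
    zpow_congr hζ] at h1
  rw [Pi.smul_apply, smul_eq_mul, h1]
  push_cast
  ring

/-- An eigenvector modulo a prime is scaled by the twist. -/
theorem rel_of_eigen {q : ℕ} (a : Fin (T4).rank → ℤ) {v : Equiv.Perm (Fin (T4).n)}
    (hv : v ∈ (T4).WP hT4)
    (he : (fun j => (a j : ZMod ℓ)) ᵥ* (mat T4 hT4 v).map (Int.castRingHom (ZMod ℓ)) =
      (q : ZMod ℓ) • fun j => (a j : ZMod ℓ)) (u : Fin (T4).n) :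
    ζ ^ val T4 a (v u).val = (ζ ^ val T4 a u.val) ^ q := by
  rw [← zpow_natCast (ζ ^ val T4 a _) q, ← _root_.zpow_mul, val_perm hT4 hv, zpow_congr hζ,
    cast_val, Int.cast_mul, cast_val, Int.cast_natCast]
  rw [cast_vecMul] at he
  rw [he, smul_dotProduct, smul_eq_mul, mul_comm]

end Log

section Frame

variable {K : Type*} [Field K] [Fintype K]

theorem torus_inj : Function.Injective (torusHom T4 K) :=
  torusHom_injective_of_smith hT4 Data.F4.chkSmith (by decide)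

theorem torus_mem (f : Fin (T4).rank → Kˣ) : torusHom T4 K f ∈ (T4).datum.group K :=
  diag_le_group hT4 (by rw [← torusHom_range hT4]; exact ⟨f, rfl⟩)

/-- An element of prime order prime to the Weyl group is conjugate into the torus. -/
theorem into_torus {ℓ : ℕ} [Fact ℓ.Prime] (h5 : 5 ≤ ℓ) (hℓK : ℓ ∣ Fintype.card K - 1)
    (A : Subgroup ↥((T4).datum.group K))
    (hA : ((T4).datum.diagonalSubgroup K).subgroupOf ((T4).datum.group K) ≤ A)
    {y : ↥((T4).datum.group K)} (hy : y ∈ A) (hyo : orderOf y = ℓ) :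
    ∃ g ∈ A, ∃ f, torusHom T4 K f = (g : GL (T4).I K) * y * (g : GL (T4).I K)⁻¹ := by
  set D := ((T4).datum.diagonalSubgroup K).subgroupOf ((T4).datum.group K)
  have hDG : (Nat.card D).factorization ℓ = (Nat.card ((T4).datum.group K)).factorization ℓ := by
    rw [Nat.card_congr (Subgroup.subgroupOfEquivOfLe (diag_le_group hT4)).toEquiv,
      card_flag_dvd hT4 hC4 hℓK (coprime_WP Fact.out h5)]
  have h1 := (Nat.factorization_le_iff_dvd Nat.card_pos.ne' Nat.card_pos.ne').2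
    (Subgroup.card_dvd_of_le hA) ℓ
  have h2 := (Nat.factorization_le_iff_dvd Nat.card_pos.ne' Nat.card_pos.ne').2
    (Subgroup.card_subgroup_dvd_card A) ℓ
  obtain ⟨g, hg⟩ := Twist.ToriGen.conj_into (p := ℓ) (G := A) (D.subgroupOf A)
    (by rw [Nat.card_congr (Subgroup.subgroupOfEquivOfLe hA).toEquiv]; omega)
    (k := 1) (y := ⟨y, hy⟩) (by rw [pow_one, ← Subgroup.orderOf_coe]; exact hyo)
  refine ⟨g.1, g.2, ?_⟩
  rw [← MonoidHom.mem_range, torusHom_range hT4]
  exact hg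

theorem exists_log {ℓ : ℕ} [Fact ℓ.Prime] {ζ : Kˣ} (hζ : orderOf ζ = ℓ) {f : Fin (T4).rank → Kˣ}
    (hf : f ^ ℓ = 1) :
    ∃ a : Fin (T4).rank → ℤ, ∀ u : Fin (T4).n, tCh T4 f u.val = ζ ^ val T4 a u.val := by
  have hlog : ∀ j : Fin (T4).rank, ∃ k : ℤ, ζ ^ k = tCh T4 f ((T4).simple j.val) := by
    intro j
    have h1 : IsPrimitiveRoot ζ ℓ := hζ ▸ IsPrimitiveRoot.orderOf ζ
    refine Subgroup.mem_zpowers_iff.1 ?_
    rw [h1.zpowers_eq, mem_rootsOfUnity, ← tCh_pow, hf]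
    simp [tCh]
  choose a ha using hlog
  refine ⟨a, fun u => ?_⟩
  rw [tCh_linear hT4, val, dotProduct, zpow_sum_eq]
  exact Finset.prod_congr rfl fun j _ => by rw [_root_.zpow_mul, ha]

theorem cast_ne_zero {ℓ : ℕ} [Fact ℓ.Prime] {ζ : Kˣ} (hζ : orderOf ζ = ℓ) {f : Fin (T4).rank → Kˣ}
    {a : Fin (T4).rank → ℤ} (hval : ∀ u : Fin (T4).n, tCh T4 f u.val = ζ ^ val T4 a u.val)
    (hf : f ≠ 1) : (fun j => (a j : ZMod ℓ)) ≠ 0 := by
  intro h0
  refine hf (torus_inj (torus_congr hT4 fun s => ?_))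
  rw [hval, show ζ ^ val T4 a s.val = ζ ^ (0 : ℤ) from (zpow_congr hζ).2 (by
    rw [cast_val, h0, zero_dotProduct, Int.cast_zero]), zpow_zero]
  simp [tCh]

/-- The torus elements centralise a unipotent element supported in the kernel. -/
theorem commute_of_support {f g : Fin (T4).rank → Kˣ}
    (hsupp : ∀ s : Fin (T4).n, tCh T4 f s.val = 1 → tCh T4 g s.val = 1)
    {u : GL (T4).I K} (hu : u ∈ (T4).rootGen K (fun r => (T4).half ≤ r))
    (hc : torusHom T4 K f * u = u * torusHom T4 K f) : torusHom T4 K g * u = u * torusHom T4 K g := by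
  have h2n : (T4).half + (T4).half = (T4).n := (Nat.two_mul _).symm
  obtain ⟨a, rfl⟩ := exists_uProd hT4 hC4 (T4).half (T4).half h2n le_rfl u hu
  have e1 : MulAut.conj (torusHom T4 K f) ((T4).uProd a (T4).half (T4).half) =
      (T4).uProd (fun r => (tCh T4 f r : K) * a r) (T4).half (T4).half := by
    simp only [uProd, map_list_prod, List.map_map]
    refine congrArg List.prod (List.map_congr_left fun r hr => ?_)
    simp only [List.mem_range'_1] at hr
    show torusHom T4 K f * (T4).xU K r (a r) * (torusHom T4 K f)⁻¹ = _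
    rw [torus_xU hT4 f ⟨r, by omega⟩, mul_inv_cancel_right]
  have e2 : MulAut.conj (torusHom T4 K f) ((T4).uProd a (T4).half (T4).half) =
      (T4).uProd a (T4).half (T4).half := by
    rw [MulAut.conj_apply, hc, mul_inv_cancel_right]
  have h0 := uProd_inj hT4 hC4 (T4).half (T4).half h2n le_rfl _ _ (e1.symm.trans e2)
  simp only [uProd]
  refine (Commute.list_prod_right _ _ fun x hx => ?_).eq
  obtain ⟨r, hr, rfl⟩ := List.mem_map.1 hx
  simp only [List.mem_range'_1] at hr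
  have hrn : r < (T4).n := by omega
  by_cases ha : a r = 0
  · rw [ha, xU_zero hT4 hrn]
    exact Commute.one_right _
  · have h1 : tCh T4 f r = 1 :=
      Units.ext (mul_right_cancel₀ ha (by rw [Units.val_one, one_mul]; exact h0 r hr.1 hrn))
    show torusHom T4 K g * _ = _
    rw [torus_xU hT4 g ⟨r, hrn⟩, hsupp ⟨r, hrn⟩ h1, Units.val_one, one_mul]

variable {F : Type*} [Field F] {q : ℕ} (ι : F →+* K) (σ : K →+* K)
  (hσ : ∀ x, σ x = x ^ q) (hfix : ∀ x, σ x = x ↔ x ∈ Set.range ι)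

include hσ in
theorem map_torus_pow (f : Fin (T4).rank → Kˣ) :
    mapGL T4 σ (torusHom T4 K f) = torusHom T4 K f ^ q := by
  rw [map_torus, ← map_pow]
  exact congrArg _ (funext fun i => Units.ext (by simp [hσ]))

include hfix in
theorem map_map (g : GL (T4).I F) : mapGL T4 σ (mapGL T4 ι g) = mapGL T4 ι g :=
  Units.ext (Matrix.ext fun i j => (hfix _).2 ⟨(g : Matrix (T4).I (T4).I F) i j, rfl⟩)

include hσ hfix in
/-- The field map acts on a torus conjugate of a rational element through a Weyl element. -/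
theorem exists_frame {x : GL (T4).I K} (hx : x ∈ (T4).datum.group K) {t : GL (T4).I F}
    {f : Fin (T4).rank → Kˣ} (hf : torusHom T4 K f = x * mapGL T4 ι t * x⁻¹) :
    ∃ u1 ∈ (T4).rootGen K (fun r => (T4).half ≤ r), ∃ m ∈ (T4).datum.monomialSubgroup K,
      ∃ v ∈ (T4).WP hT4, ∃ u ∈ (T4).rootGen K (fun r => (T4).half ≤ r), (T4).Mono m v⁻¹ ∧
        mapGL T4 σ x * x⁻¹ = u1 * m * u ∧
        torusHom T4 K (f ^ q) * u1 = u1 * torusHom T4 K (f ^ q) ∧
        torusHom T4 K f * u = u * torusHom T4 K f ∧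
        ∀ s : Fin (T4).n, tCh T4 f (v s).val = tCh T4 f s.val ^ q := by
  obtain ⟨u1, hu1, m, hmN, w, hw, u, hu, hmm, hye, hcu1, hcu, hwrel⟩ :=
    decompose hT4 hC4 (mul_mem (map_group σ hT4 ⟨x, hx, rfl⟩) (inv_mem hx)) (y := mapGL T4 σ x * x⁻¹)
      (f := f) (g := f ^ q) (by
        rw [map_pow, ← map_torus_pow σ hσ, hf, map_mul, map_mul, map_inv, map_map ι σ hfix]
        group)
  refine ⟨u1, hu1, m, hmN, w⁻¹, inv_mem hw, u, hu, by rw [inv_inv]; exact hmm, hye, hcu1, hcu,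
    fun s => ?_⟩
  have h1 := hwrel (w⁻¹ s)
  rw [← Equiv.Perm.mul_apply, mul_inv_cancel, Equiv.Perm.one_apply, tCh_pow] at h1
  exact h1.symm

theorem frame_commute {y u1 m u : GL (T4).I K}
    (hu1 : u1 ∈ (T4).rootGen K (fun r => (T4).half ≤ r)) (hmN : m ∈ (T4).datum.monomialSubgroup K)
    (hu : u ∈ (T4).rootGen K (fun r => (T4).half ≤ r)) {v : Equiv.Perm (Fin (T4).n)}
    (hmm : (T4).Mono m v⁻¹) (hy : y = u1 * m * u) {f f' : Fin (T4).rank → Kˣ}
    (hcu1 : torusHom T4 K (f ^ q) * u1 = u1 * torusHom T4 K (f ^ q))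
    (hcu : torusHom T4 K f * u = u * torusHom T4 K f) {ℓ : ℕ} (hfℓ : f ^ ℓ = 1) (hqℓ : ℓ.Coprime q)
    (hf' : f' ∈ twisted T4 K v q)
    (hsupp : ∀ s : Fin (T4).n, tCh T4 f s.val = 1 → tCh T4 f' s.val = 1) :
    y * torusHom T4 K f' = torusHom T4 K f' ^ q * y := by
  have h1 : m * torusHom T4 K f' = torusHom T4 K (f' ^ q) * m := by
    refine (mono_rel hT4 hmN hmm f' (f' ^ q)).2 fun r => ?_
    have h2 := hf' (v⁻¹ r)
    rw [← Equiv.Perm.mul_apply v, mul_inv_cancel, Equiv.Perm.one_apply] at h2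
    rw [tCh_pow, h2]
  have h2 := commute_of_support hsupp hu hcu
  have h3 : torusHom T4 K (f' ^ q) * u1 = u1 * torusHom T4 K (f' ^ q) := by
    refine commute_of_support (fun s hs => ?_) hu1 hcu1
    rw [tCh_pow] at hs ⊢
    have hℓ : tCh T4 f s.val ^ ℓ = 1 := by rw [← tCh_pow, hfℓ]; simp [tCh]
    have h4 := pow_gcd_eq_one.2 ⟨hℓ, hs⟩
    rw [hqℓ.gcd_eq_one, pow_one] at h4
    rw [hsupp s h4, one_pow]
  rw [← map_pow, hy]
  calc u1 * m * u * torusHom T4 K f' = u1 * (m * torusHom T4 K f') * u := by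
        rw [mul_assoc (u1 * m) u, ← h2]; group
    _ = u1 * torusHom T4 K (f' ^ q) * m * u := by rw [h1]; group
    _ = _ := by rw [← h3]; group

include hσ hfix in
/-- A torus element fixed by the twist gives a rational element. -/
theorem exists_descend {x : GL (T4).I K} (hx : x ∈ (T4).datum.group K) {f : Fin (T4).rank → Kˣ}
    (hf : mapGL T4 σ x * x⁻¹ * torusHom T4 K f = torusHom T4 K f ^ q * (mapGL T4 σ x * x⁻¹)) :
    ∃ g ∈ (T4).datum.group F, mapGL T4 ι g = x⁻¹ * torusHom T4 K f * x := by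
  set z := x⁻¹ * torusHom T4 K f * x with hz
  have hzG : z ∈ (T4).datum.group K := mul_mem (mul_mem (inv_mem hx) (torus_mem f)) hx
  have hzfix : mapGL T4 σ z = z := by
    rw [hz, map_mul, map_mul, map_inv, map_torus_pow σ hσ]
    calc (mapGL T4 σ x)⁻¹ * torusHom T4 K f ^ q * mapGL T4 σ x
        = (mapGL T4 σ x)⁻¹ * (torusHom T4 K f ^ q * (mapGL T4 σ x * x⁻¹)) * x := by group
      _ = x⁻¹ * torusHom T4 K f * x := by rw [← hf]; group
  exact fixed_mem hT4 hC4 σ ι hfix torus_inj hzG hzfix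

include hσ hfix in
/-- A non-trivial torus element fixed by the twist, commuting in the rational group. -/
theorem exists_order {x : GL (T4).I K} (hx : x ∈ (T4).datum.group K) {t : GL (T4).I F}
    {f0 : Fin (T4).rank → Kˣ} (hf0 : torusHom T4 K f0 = x * mapGL T4 ι t * x⁻¹)
    {f : Fin (T4).rank → Kˣ}
    (hf : mapGL T4 σ x * x⁻¹ * torusHom T4 K f = torusHom T4 K f ^ q * (mapGL T4 σ x * x⁻¹))
    {s : ℕ} [Fact s.Prime] (hfs : f ^ s = 1) (hf1 : f ≠ 1) :
    ∃ g ∈ (T4).datum.group F, orderOf g = s ∧ g * t = t * g := by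
  obtain ⟨g, hg, hgz⟩ := exists_descend ι σ hσ hfix hx hf
  refine ⟨g, hg, orderOf_eq_prime (mapGL_inj ι ?_) (fun h => hf1 (torus_inj ?_)), mapGL_inj ι ?_⟩
  · rw [map_pow, map_one, hgz]
    calc (x⁻¹ * torusHom T4 K f * x) ^ s = x⁻¹ * torusHom T4 K f ^ s * (x⁻¹)⁻¹ := by
          rw [← _root_.conj_pow, inv_inv]
      _ = 1 := by rw [← map_pow, hfs, map_one]; group
  · rw [h, map_one] at hgz
    rw [map_one]
    calc torusHom T4 K f = x * (x⁻¹ * torusHom T4 K f * x) * x⁻¹ := by group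
      _ = 1 := by rw [← hgz]; group
  · have h3 : mapGL T4 ι t = x⁻¹ * torusHom T4 K f0 * x := by rw [hf0]; group
    rw [map_mul, map_mul, hgz, h3]
    calc _ = x⁻¹ * (torusHom T4 K f * torusHom T4 K f0) * x := by group
      _ = x⁻¹ * (torusHom T4 K f0 * torusHom T4 K f) * x := by rw [← map_mul, mul_comm f, map_mul]
      _ = _ := by group

theorem exists_conj {ℓ : ℕ} [Fact ℓ.Prime] (h5 : 5 ≤ ℓ) (hℓK : ℓ ∣ Fintype.card K - 1)
    {t : GL (T4).I F} (ht : t ∈ (T4).datum.group F) (hto : orderOf t = ℓ) :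
    ∃ x ∈ (T4).datum.group K, ∃ f, torusHom T4 K f = x * mapGL T4 ι t * x⁻¹ ∧ f ^ ℓ = 1 ∧ f ≠ 1 := by
  obtain ⟨g, -, f, hf⟩ := into_torus h5 hℓK (⊤ : Subgroup ↥((T4).datum.group K)) le_top
    (y := ⟨mapGL T4 ι t, map_group ι hT4 ⟨t, ht, rfl⟩⟩) (Subgroup.mem_top _)
    (by rw [← Subgroup.orderOf_coe, orderOf_injective _ (mapGL_inj ι), hto])
  refine ⟨g, g.2, f, hf, ?_, ?_⟩
  · refine torus_inj ?_
    rw [map_pow, hf, _root_.conj_pow, ← map_pow, ← hto, pow_orderOf_eq_one]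
    simp
  · rintro rfl
    rw [map_one, eq_comm, conj_eq_one_iff, ← map_one (mapGL T4 ι)] at hf
    rw [mapGL_inj ι hf, orderOf_one] at hto
    exact (Fact.out : ℓ.Prime).ne_one hto.symm

include hσ hfix in
/-- Commuting elements of two prime orders have a common twist. -/
theorem exists_common_twist {r s k l : ℕ} [hr : Fact r.Prime] [hs : Fact s.Prime] (hr5 : 5 ≤ r)
    (hs5 : 5 ≤ s) (hrs : r ≠ s) (hrK : r ∣ Fintype.card K - 1) (hsK : s ∣ Fintype.card K - 1)
    (hk : IsPrimitiveRoot (q : ZMod r) k) (hl : IsPrimitiveRoot (q : ZMod s) l)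
    {t1 t2 : GL (T4).I F} (ht1 : t1 ∈ (T4).datum.group F) (ht2 : t2 ∈ (T4).datum.group F)
    (ho1 : orderOf t1 = r) (ho2 : orderOf t2 = s) (hc : t1 * t2 = t2 * t1) :
    ∃ v ∈ (T4).WP hT4,
      (Polynomial.aeval (mat T4 hT4 v) (Polynomial.cyclotomic k ℤ)).det = 0 ∧
      (Polynomial.aeval (mat T4 hT4 v) (Polynomial.cyclotomic l ℤ)).det = 0 := by
  classical
  obtain ⟨x, hx, f1, hf1, hf1r, hf1ne⟩ := exists_conj ι hr5 hrK ht1 ho1
  set y2 : ↥((T4).datum.group K) := ⟨x * mapGL T4 ι t2 * x⁻¹,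
    mul_mem (mul_mem hx (map_group ι hT4 ⟨t2, ht2, rfl⟩)) (inv_mem hx)⟩
  set A : Subgroup ↥((T4).datum.group K) :=
    (Subgroup.centralizer {torusHom T4 K f1}).subgroupOf ((T4).datum.group K)
  have hmemA : ∀ c : ↥((T4).datum.group K), c ∈ A ↔
      (c : GL (T4).I K) * torusHom T4 K f1 = torusHom T4 K f1 * c := fun c => by
    rw [Subgroup.mem_subgroupOf, Subgroup.mem_centralizer_singleton_iff]
  obtain ⟨c, hcA, f2, hf2⟩ := into_torus hs5 hsK A (fun d hd => by
      rw [Subgroup.mem_subgroupOf, ← torusHom_range hT4] at hd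
      obtain ⟨f, hf⟩ := hd
      rw [hmemA, ← hf, ← map_mul, ← map_mul, mul_comm])
    (y := y2) ((hmemA _).2 (by
      rw [hf1]
      show x * mapGL T4 ι t2 * x⁻¹ * _ = _ * (x * mapGL T4 ι t2 * x⁻¹)
      calc _ = x * (mapGL T4 ι t2 * mapGL T4 ι t1) * x⁻¹ := by group
        _ = x * (mapGL T4 ι t1 * mapGL T4 ι t2) * x⁻¹ := by rw [← map_mul, ← map_mul, hc]
        _ = _ := by group))
    (by
      rw [← Subgroup.orderOf_coe]
      show orderOf (MulAut.conj x (mapGL T4 ι t2)) = s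
      rw [MulEquiv.orderOf_eq, orderOf_injective _ (mapGL_inj ι), ho2])
  set z : GL (T4).I K := (c : GL (T4).I K) * x with hzdef
  have hz : z ∈ (T4).datum.group K := mul_mem c.2 hx
  have hzf1 : torusHom T4 K f1 = z * mapGL T4 ι t1 * z⁻¹ := by
    have := (hmemA _).1 hcA
    calc torusHom T4 K f1 = (c : GL (T4).I K) * torusHom T4 K f1 * (c : GL (T4).I K)⁻¹ := by
          rw [this, mul_inv_cancel_right]
      _ = _ := by rw [hf1, hzdef]; group
  have hzf2 : torusHom T4 K f2 = z * mapGL T4 ι t2 * z⁻¹ := by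
    rw [hf2, hzdef]
    show _ * (x * mapGL T4 ι t2 * x⁻¹) * _ = _
    group
  have hf2s : f2 ^ s = 1 := torus_inj (by
    rw [map_pow, hzf2, _root_.conj_pow, ← map_pow, ← ho2, pow_orderOf_eq_one]
    simp)
  have hf2ne : f2 ≠ 1 := by
    rintro rfl
    rw [map_one, eq_comm, conj_eq_one_iff, ← map_one (mapGL T4 ι)] at hzf2
    rw [mapGL_inj ι hzf2, orderOf_one] at ho2
    exact hs.out.ne_one ho2.symm
  obtain ⟨-, -, -, -, v, hv, -, -, -, -, -, -, hrel⟩ := exists_frame ι σ hσ hfix hz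
    (t := t1 * t2) (f := f1 * f2) (by rw [map_mul, map_mul, hzf1, hzf2]; group)
  refine ⟨v, hv, ?_⟩
  have hW := fun ℓ (hℓ : ℓ.Prime) (h5 : 5 ≤ ℓ) => coprime_WP hℓ h5
  have key : ∀ (ℓ e : ℕ) (_ : Fact ℓ.Prime) (f g : Fin (T4).rank → Kˣ) (k' : ℕ), 5 ≤ ℓ →
      ℓ ∣ Fintype.card K - 1 → IsPrimitiveRoot (q : ZMod ℓ) e → f ^ ℓ = 1 → f ≠ 1 → g ^ k' = 1 →
      ℓ.Coprime k' → (∀ u : Fin (T4).n, tCh T4 (f * g) (v u).val = tCh T4 (f * g) u.val ^ q) →
      (Polynomial.aeval (mat T4 hT4 v) (Polynomial.cyclotomic e ℤ)).det = 0 := by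
    intro ℓ e _ f g k' h5 hℓK he hfℓ hfne hgk hcop hr'
    obtain ⟨ζ, hζ⟩ := exists_prime_orderOf_dvd_card' (G := Kˣ) ℓ (by
      rw [Nat.card_units, Nat.card_eq_fintype_card]; exact hℓK)
    obtain ⟨a, ha⟩ := exists_log hζ hfℓ
    have hg1 : ∀ u, tCh T4 g u ^ k' = 1 := fun u => by rw [← tCh_pow, hgk]; simp [tCh]
    have hf1' : ∀ u, tCh T4 f u ^ ℓ = 1 := fun u => by rw [← tCh_pow, hfℓ]; simp [tCh]
    have hrel' : ∀ u : Fin (T4).n, tCh T4 f (v u).val = tCh T4 f u.val ^ q := by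
      intro u
      have h1 := congrArg (· ^ k') (hr' u)
      simp only [tCh_mul, mul_pow, hg1, mul_one] at h1
      rw [show (tCh T4 g u.val ^ q) ^ k' = 1 by rw [pow_right_comm, hg1, one_pow], mul_one] at h1
      rw [← mul_inv_eq_one]
      have h2 : (tCh T4 f (v u).val * (tCh T4 f u.val ^ q)⁻¹) ^ ℓ = 1 := by
        rw [mul_pow, hf1', one_mul, inv_pow, pow_right_comm, hf1', one_pow, inv_one]
      have h3 : (tCh T4 f (v u).val * (tCh T4 f u.val ^ q)⁻¹) ^ k' = 1 := by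
        rw [mul_pow, h1, inv_pow, mul_inv_cancel]
      have h4 := pow_gcd_eq_one.2 ⟨h2, h3⟩
      rwa [hcop.gcd_eq_one, pow_one] at h4
    have hN : mat T4 hT4 v ^ orderOf v = 1 := by rw [← mat_pow hT4 hv, pow_orderOf_eq_one, mat_one]
    obtain ⟨ν, -, hν, hν0⟩ := exists_killed (mat T4 hT4 v) hN (orderOf_pos v)
      (fun h => (Fact.out : ℓ.Prime).ne_one (Nat.eq_one_of_dvd_coprimes (coprime_WP Fact.out h5) dvd_rfl
        (h.trans (Subgroup.orderOf_dvd_natCard _ hv))))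
      he (fun _ => True) trivial (fun _ _ _ _ => trivial) (fun _ _ _ => trivial) (fun _ _ => trivial)
      (μ := a) trivial (cast_ne_zero hζ ha hfne)
      (eigen_of_rel hζ a hv fun u => by rw [← ha, ← ha, hrel'])
    exact det_eq_zero_of_killed hν hν0
  have hcop : r.Coprime s := (Nat.coprime_primes hr.out hs.out).2 hrs
  exact ⟨key r k hr f1 f2 s hr5 hrK hk hf1r hf1ne hf2s hcop hrel,
    key s l hs f2 f1 r hs5 hsK hl hf2s hf2ne hf1r hcop.symm (by rw [mul_comm]; exact hrel)⟩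

include hσ hfix in
/-- For `φ(e) = 4` the centraliser over the extension is the torus. -/
theorem exists_regular_frame {e P r : ℕ} [Fact r.Prime] (h5 : 5 ≤ r) (hrK : r ∣ Fintype.card K - 1)
    (hqr : IsPrimitiveRoot (q : ZMod r) e) (he : 0 < e) (hte : e.totient = (T4).rank)
    (hP : (Polynomial.cyclotomic e ℤ).eval (q : ℤ) = (P : ℤ)) (hP0 : P ≠ 0) (hPE : P ∣ Nat.card Kˣ)
    (hsq : ∀ p : ℕ, p.Prime → p ^ 2 ∣ P → ¬ p ∣ e) (hqℓ : r.Coprime q)
    {t : GL (T4).I F} (ht : t ∈ (T4).datum.group F) (hto : orderOf t = r) :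
    ∃ x ∈ (T4).datum.group K, ∃ f0, ∃ v ∈ (T4).WP hT4, torusHom T4 K f0 = x * mapGL T4 ι t * x⁻¹ ∧
      (∀ c ∈ (T4).datum.group K, torusHom T4 K f0 * c = c * torusHom T4 K f0 →
        ∃ f, torusHom T4 K f = c) ∧
      (∀ f, f ∈ twisted T4 K v q ↔ mapGL T4 σ x * x⁻¹ * torusHom T4 K f =
        torusHom T4 K f ^ q * (mapGL T4 σ x * x⁻¹)) ∧
      Nat.card (twisted T4 K v q) = P := by
  classical
  obtain ⟨x, hx, f0, hf0, hf0r, hf0ne⟩ := exists_conj ι h5 hrK ht hto
  obtain ⟨u1, hu1, m, hmN, v, hv, u, hu, hmm, hye, hcu1, hcu, hvrel⟩ :=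
    exists_frame ι σ hσ hfix hx hf0
  obtain ⟨ζ, hζ⟩ := exists_prime_orderOf_dvd_card' (G := Kˣ) r (by
    rw [Nat.card_units, Nat.card_eq_fintype_card]; exact hrK)
  obtain ⟨a, ha⟩ := exists_log hζ hf0r
  have hW := coprime_WP (ℓ := r) Fact.out h5
  have hrel : ∀ s : Fin (T4).n, ζ ^ val T4 a (v s).val = (ζ ^ val T4 a s.val) ^ q :=
    fun s => by rw [← ha, ← ha, hvrel]
  have ha0 := cast_ne_zero hζ ha hf0ne
  have hN : mat T4 hT4 v ^ orderOf v = 1 := by rw [← mat_pow hT4 hv, pow_orderOf_eq_one, mat_one]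
  obtain ⟨hchp, hirr⟩ := cyclotomic_of_eigen (mat T4 hT4 v) he hte hN (orderOf_pos v)
    (fun h => (Fact.out : r.Prime).ne_one (Nat.eq_one_of_dvd_coprimes hW dvd_rfl
      (h.trans (Subgroup.orderOf_dvd_natCard _ hv))))
    hqr ha0 (eigen_of_rel hζ a hv hrel)
  have hnz : ∃ s : Fin (T4).n, ζ ^ val T4 a s.val ≠ 1 := by
    by_contra h
    push Not at h
    exact hf0ne (torus_inj (torus_congr hT4 fun s => by rw [ha, h]; simp [tCh]))
  have hreg : ∀ s : Fin (T4).n, tCh T4 f0 s.val ≠ 1 := fun s => by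
    rw [ha]; exact regular hT4 hζ hW a hv hnz hrel hirr s
  refine ⟨x, hx, f0, v, hv, hf0, fun c hc h => ?_, fun f => ⟨fun hf => ?_, fun hf s => ?_⟩,
    (twisted_cyclic hT4 torus_inj hv hchp hP hP0 hPE hsq).2⟩
  · obtain ⟨u1', hu1', m', hm'N, w', hw', u', hu', hmm', hce, hc1, hc2, hrel'⟩ :=
      decompose hT4 hC4 hc h
    rw [unip_trivial hT4 hC4 hreg hu1' hc1, unip_trivial hT4 hC4 hreg hu' hc2, one_mul, mul_one] at hce
    have hw1 : w' = 1 := stab_trivial hT4 hζ hW a (fun s => by rw [← ha]; exact hreg s) hw'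
      fun s => by rw [← ha, ← ha, hrel']
    subst hw1
    rw [← MonoidHom.mem_range, torusHom_range hT4, hce]
    exact mem_diag_of_mono_one hT4 hm'N hmm'
  · exact frame_commute hu1 hmN hu hmm hye hcu1 hcu hf0r hqℓ hf fun s h => absurd h (hreg s)
  · have hregq : ∀ s : Fin (T4).n, tCh T4 (f0 ^ q) s.val ≠ 1 := fun s => by
      rw [tCh_pow, ← hvrel]; exact hreg _
    rw [hye, unip_trivial hT4 hC4 hregq hu1 hcu1, unip_trivial hT4 hC4 hreg hu hcu, one_mul, mul_one,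
      ← map_pow] at hf
    have h2 := (mono_rel hT4 hmN hmm f (f ^ q)).1 hf (v s)
    rw [← Equiv.Perm.mul_apply, inv_mul_cancel, Equiv.Perm.one_apply, tCh_pow] at h2
    exact h2.symm

include hσ hfix in
/-- For `Φ_e` quadratic: a commuting element of order `s`. -/
theorem exists_commuting_quadratic {e r s : ℕ} [Fact r.Prime] [hs : Fact s.Prime] (h5 : 5 ≤ r)
    (hrK : r ∣ Fintype.card K - 1) (hsK : s ∣ Fintype.card K - 1)
    (hqr : IsPrimitiveRoot (q : ZMod r) e) {b : ℤ} (hb : -1 ≤ b) (hb' : b ≤ 1)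
    (hcyc : Polynomial.cyclotomic e ℤ = Polynomial.X ^ 2 + Polynomial.C b * Polynomial.X + 1)
    (hsq : (s : ℤ) ∣ (q : ℤ) * q + b * q + 1) (hqℓ : r.Coprime q)
    {t : GL (T4).I F} (ht : t ∈ (T4).datum.group F) (hto : orderOf t = r) :
    ∃ g ∈ (T4).datum.group F, orderOf g = s ∧ g * t = t * g := by
  classical
  obtain ⟨x, hx, f0, hf0, hf0r, hf0ne⟩ := exists_conj ι h5 hrK ht hto
  obtain ⟨u1, hu1, m, hmN, v, hv, u, hu, hmm, hye, hcu1, hcu, hvrel⟩ :=
    exists_frame ι σ hσ hfix hx hf0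
  obtain ⟨ζ, hζ⟩ := exists_prime_orderOf_dvd_card' (G := Kˣ) r (by
    rw [Nat.card_units, Nat.card_eq_fintype_card]; exact hrK)
  obtain ⟨ξ, hξ⟩ := exists_prime_orderOf_dvd_card' (G := Kˣ) s (by
    rw [Nat.card_units, Nat.card_eq_fintype_card]; exact hsK)
  obtain ⟨a, ha⟩ := exists_log hζ hf0r
  have hW := coprime_WP (ℓ := r) Fact.out h5
  obtain ⟨μ, hμ, c, hc0, hμa⟩ := exists_lattice hζ hW a
  set M := mat T4 hT4 v with hM
  let P : (Fin (T4).rank → ℤ) → Prop := fun μ =>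
    ∀ β : Fin (T4).n, tCh T4 f0 β.val = 1 → val T4 μ β.val = 0
  have hadd : ∀ x y, P x → P y → P (x + y) := fun x y hx hy β h => by
    rw [val_add, hx β h, hy β h, add_zero]
  have hsmul : ∀ (d : ℤ) x, P x → P (d • x) := fun d x hx β h => by rw [val_smul, hx β h, mul_zero]
  have hPM : ∀ x, P x → P (x ᵥ* M) := fun x hx β h => by
    rw [hM, ← val_perm hT4 hv]
    exact hx _ (by rw [hvrel, h, one_pow])
  have hN : M ^ orderOf v = 1 := by rw [hM, ← mat_pow hT4 hv, pow_orderOf_eq_one, mat_one]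
  obtain ⟨ν, hν, hν0, hkill⟩ := exists_killed M hN (orderOf_pos v)
    (fun h => (Fact.out : r.Prime).ne_one (Nat.eq_one_of_dvd_coprimes hW dvd_rfl
      (h.trans (Subgroup.orderOf_dvd_natCard _ hv))))
    hqr P (fun β _ => val_zero _) hadd hsmul hPM
    (μ := μ) (fun β h => hμ β (by rw [← ha]; exact h))
    (by rw [hμa]; exact smul_ne_zero hc0 (cast_ne_zero hζ ha hf0ne))
    (by rw [hμa, Matrix.smul_vecMul, eigen_of_rel hζ a hv (fun u => by rw [← ha, ← ha, hvrel]),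
      smul_comm])
  rw [hcyc] at hkill
  simp only [map_add, map_mul, Polynomial.aeval_X, Polynomial.aeval_C, map_one, pow_two,
    Matrix.vecMul_add, Matrix.vecMul_one, ← Matrix.vecMul_vecMul, Algebra.algebraMap_eq_smul_one,
    Matrix.vecMul_smul, Matrix.smul_vecMul] at hkill
  obtain ⟨ν', hν', hν'0, heig⟩ := exists_eigen_mod M hb hb' hs.out hsq P hadd hsmul hPM
    (fun d x hd hx β h => by
      have := hx β h
      rw [val_smul] at this
      exact (mul_eq_zero.1 this).resolve_left hd) hν hν0 hkill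
  rw [Int.cast_natCast] at heig
  obtain ⟨f', hf'⟩ := powMat_surjective hT4 torus_inj fun j => ξ ^ ν' j
  have hval : ∀ β : Fin (T4).n, tCh T4 f' β.val = ξ ^ val T4 ν' β.val := fun β => by
    rw [tCh_linear hT4, val, dotProduct, zpow_sum_eq]
    exact Finset.prod_congr rfl fun j _ => by rw [_root_.zpow_mul, hf']
  refine exists_order ι σ hσ hfix hx hf0 (frame_commute hu1 hmN hu hmm hye hcu1 hcu hf0r hqℓ
    (fun β => by rw [hval, hval]; exact rel_of_eigen hξ ν' hv heig β)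
    fun β h => by rw [hval, hν' β h, zpow_zero]) (s := s) ?_ ?_
  · refine torus_inj (torus_congr hT4 fun β => ?_)
    rw [tCh_pow, hval, ← zpow_natCast (ξ ^ _) s, ← _root_.zpow_mul, mul_comm, _root_.zpow_mul,
      zpow_natCast, ← hξ, pow_orderOf_eq_one, _root_.one_zpow]
    simp [tCh]
  · rintro rfl
    refine hν'0 (funext fun j => ?_)
    have h1 := hval ((T4).simpF hT4 j)
    rw [show ((T4).simpF hT4 j).val = (T4).simple j.val from rfl, val_simple hT4,
      show tCh T4 (1 : Fin (T4).rank → Kˣ) ((T4).simple j.val) = ξ ^ (0 : ℤ) by simp [tCh],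
      zpow_congr hξ, Int.cast_zero] at h1
    exact h1.symm

include hσ hfix in
/-- For `φ(e) = 4` the commuting elements of prime order are the prime divisors of `Φ_e(q)`. -/
theorem commuting_iff_dvd {e P r s : ℕ} [Fact r.Prime] [hs : Fact s.Prime] (h5 : 5 ≤ r)
    (hrK : r ∣ Fintype.card K - 1) (hqr : IsPrimitiveRoot (q : ZMod r) e) (he : 0 < e)
    (hte : e.totient = (T4).rank) (hP : (Polynomial.cyclotomic e ℤ).eval (q : ℤ) = (P : ℤ))
    (hP0 : P ≠ 0) (hPE : P ∣ Nat.card Kˣ) (hsq : ∀ p : ℕ, p.Prime → p ^ 2 ∣ P → ¬ p ∣ e)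
    (hqℓ : r.Coprime q) {t : GL (T4).I F} (ht : t ∈ (T4).datum.group F) (hto : orderOf t = r) :
    (∃ g ∈ (T4).datum.group F, orderOf g = s ∧ g * t = t * g) ↔ s ∣ P := by
  classical
  obtain ⟨x, hx, f0, v, hv, hf0, hcent, htw, hcard⟩ :=
    exists_regular_frame ι σ hσ hfix h5 hrK hqr he hte hP hP0 hPE hsq hqℓ ht hto
  constructor
  · rintro ⟨g, hg, hgo, hgt⟩
    obtain ⟨f, hf⟩ := hcent (x * mapGL T4 ι g * x⁻¹)
      (mul_mem (mul_mem hx (map_group ι hT4 ⟨g, hg, rfl⟩)) (inv_mem hx)) (by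
        rw [hf0]
        calc _ = x * (mapGL T4 ι t * mapGL T4 ι g) * x⁻¹ := by group
          _ = x * (mapGL T4 ι g * mapGL T4 ι t) * x⁻¹ := by rw [← map_mul, ← map_mul, hgt]
          _ = _ := by group)
    have hmem : f ∈ twisted T4 K v q := (htw f).2 (by
      rw [← map_torus_pow σ hσ, hf, map_mul, map_mul, map_inv, map_map ι σ hfix]
      group)
    have ho : orderOf (⟨f, hmem⟩ : twisted T4 K v q) = s := by
      rw [← Subgroup.orderOf_coe, ← orderOf_injective _ torus_inj, hf]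
      show orderOf (MulAut.conj x (mapGL T4 ι g)) = s
      rw [MulEquiv.orderOf_eq, orderOf_injective _ (mapGL_inj ι), hgo]
    rw [← hcard, ← ho]
    exact orderOf_dvd_natCard _
  · intro hsP
    obtain ⟨f, hf⟩ := exists_prime_orderOf_dvd_card' (G := twisted T4 K v q) s (hcard ▸ hsP)
    rw [← Subgroup.orderOf_coe] at hf
    exact exists_order ι σ hσ hfix hx hf0 ((htw f).1 f.2) (s := s)
      (by rw [← hf]; exact pow_orderOf_eq_one _)
      fun h => hs.out.ne_one (by rw [← hf, h, orderOf_one])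

end Frame

end CfsgLib.Chevalley.F4Graph
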